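import Mathlib
import Cfsg.Agent.Lib.Helper10.BR0

/-!
# S0999 piece BR-G7 (helper64 for helper10): a simple non-cyclic group has more than one
Sylow `p`-subgroup when a Sylow `p`-subgroup has order `p`
-/

set_option autoImplicit false

namespace Cfsg.Agent.Lib.Helper10.BR

/-- BR-G7 -/
theorem card_sylow_ne_one {G : Type*} [Group G] [Finite G] [IsSimpleGroup G] (hG : ¬ IsCyclic G)
    (p : ℕ) [Fact p.Prime] (P : Sylow p G) (hP : Nat.card P = p) :
    Nat.card (Sylow p G) ≠ 1 := by
  intro h1
  have hp : p.Prime := Fact.out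
  have : Subsingleton (Sylow p G) := (Nat.card_eq_one_iff_unique.mp h1).1
  have hn : (P : Subgroup G).Normal := Sylow.normal_of_subsingleton P
  rcases hn.eq_bot_or_eq_top with hb | ht
  · have hP' : Nat.card (P : Subgroup G) = p := hP
    rw [hb, Subgroup.card_bot] at hP'
    exact hp.one_lt.ne hP'
  · have hP' : Nat.card (P : Subgroup G) = p := hP
    rw [ht, Subgroup.card_top] at hP'
    exact hG (isCyclic_of_prime_card hP')

end Cfsg.Agent.Lib.Helper10.BR
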