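import Mathlib
import Cfsg.Agent.Lib.Helper10.BR0

/-!
# S0999 piece BR-II5 (helper64 for helper10): in configuration (II) the normalizer of `P`
contains an involution `τ`, and every `θ ∈ Y` takes the value `±1` at such an involution
-/

set_option autoImplicit false

namespace Cfsg.Agent.Lib.Helper10.BR

open Cfsg
open Cfsg.Agent.Lib.Helper83 (trivIrr)
open scoped ComplexConjugate

namespace BRII5aux

/-- translation invariance of `psum` along the subgroup -/
theorem psum_mul_right {G : Type*} [Group G] (H : Subgroup G) [Finite H] (ψ : G → ℂ) (y u : G)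
    (hu : u ∈ H) : psum H ψ (y * u) = psum H ψ y := by
  let _ : Fintype H := Fintype.ofFinite H
  rw [psum_eq_sum, psum_eq_sum]
  refine Fintype.sum_equiv (Equiv.mulLeft (⟨u, hu⟩ : H)) _ _ ?_
  intro w
  simp [mul_assoc]

/-- summing `psum P ψ` over a larger subgroup `N` on which `ψ` sums to zero -/
theorem sum_psum_eq_zero {G : Type*} [Group G] (N P : Subgroup G) [Fintype N] [Fintype P]
    (hPN : P ≤ N) (ψ : G → ℂ) (h0 : psum N ψ 1 = 0) :
    ∑ y : N, psum P ψ (y : G) = 0 := by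
  have e1 : ∀ y : N, psum P ψ (y : G) = ∑ u : P, ψ ((y : G) * (u : G)) :=
    fun y => psum_eq_sum P _ _
  rw [Finset.sum_congr rfl (fun y _ => e1 y), Finset.sum_comm]
  apply Finset.sum_eq_zero
  intro u _
  rw [psum_eq_sum] at h0
  rw [← h0]
  refine Fintype.sum_equiv (Equiv.mulRight (⟨(u : G), hPN u.2⟩ : N)) _ _ ?_
  intro y
  simp

/-- a real complex unit of finite order is `±1` -/
theorem unit_real_of_pow (z : ℂˣ) (n : ℕ) (hn : n ≠ 0) (hz : z ^ n = 1)
    (hreal : conj (z : ℂ) = (z : ℂ)) : (z : ℂ) = 1 ∨ (z : ℂ) = -1 := by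
  have h1 : ‖(z : ℂ)‖ ^ n = 1 := by
    rw [← norm_pow, ← Units.val_pow_eq_pow_val, hz, Units.val_one, norm_one]
  have h2 : ‖(z : ℂ)‖ = 1 := (pow_eq_one_iff_of_nonneg (norm_nonneg _) hn).mp h1
  have h3 : (z : ℂ) * conj (z : ℂ) = 1 := by
    rw [Complex.mul_conj, Complex.normSq_eq_norm_sq, h2]
    norm_num
  rw [hreal] at h3
  have h4 : ((z : ℂ) - 1) * ((z : ℂ) + 1) = 0 := by linear_combination h3
  rcases mul_eq_zero.mp h4 with h5 | h5
  · left; exact sub_eq_zero.mp h5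
  · right; exact eq_neg_of_add_eq_zero_left h5

end BRII5aux

section T

variable {G : Type*} [Group G] [Fintype G] {p e t : ℕ} {P : Subgroup G} {ε : ℤ} {x₀ : ℕ}
  {A B Y D : Finset (IrrCharacter G)}

/-- BR-II5 -/
theorem exists_invol_of (h : Tab G p e t P ε x₀ A B Y D) (hε : ε = -1) (hx : x₀ = p - e)
    (hY1 : ∀ θ ∈ Y, psum P (θ : G → ℂ) 1 = (p : ℂ) ∧
      psum (Subgroup.normalizer (P : Set G)) (θ : G → ℂ) 1 = 0)
    (hhom : ∀ θ ∈ Y, ∃ lam : Subgroup.normalizer (P : Set G) →* ℂˣ,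
      ∀ y : Subgroup.normalizer (P : Set G),
        psum P (θ : G → ℂ) (y : G) = (Nat.card P : ℂ) * ((lam y : ℂˣ) : ℂ))
    (hout : ∀ θ ∈ Y, ∀ y ∈ Subgroup.normalizer (P : Set G), y ∉ P →
      psum P (θ : G → ℂ) y = (p : ℂ) * (θ : G → ℂ) y)
    (hBv : ∀ χ ∈ B, ∀ y ∈ Subgroup.normalizer (P : Set G), y ∉ P → (χ : G → ℂ) y = 0)
    (hreg : ∀ y ∈ Subgroup.normalizer (P : Set G), y ∉ P → ¬ p ∣ orderOf y)
    (hAconj : ∀ y : G, conj (∑ χ ∈ A, (χ : G → ℂ) y) = ∑ χ ∈ A, (χ : G → ℂ) y) :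
    (∃ τ ∈ Subgroup.normalizer (P : Set G), orderOf τ = 2) ∧
    (∀ τ ∈ Subgroup.normalizer (P : Set G), orderOf τ = 2 →
      ∀ θ ∈ Y, (θ : G → ℂ) τ = 1 ∨ (θ : G → ℂ) τ = -1) := by
  classical
  have hp : p.Prime := h.hp
  have hp0 : (p : ℂ) ≠ 0 := Nat.cast_ne_zero.mpr hp.pos.ne'
  have hPN : P ≤ Subgroup.normalizer (P : Set G) := Subgroup.le_normalizer
  have hcardP : (Nat.card P : ℂ) = p := by rw [h.cardP]
  -- off `P`, `θ` agrees with its linear character
  have key : ∀ θ ∈ Y, ∀ lam : Subgroup.normalizer (P : Set G) →* ℂˣ,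
      (∀ y : Subgroup.normalizer (P : Set G),
        psum P (θ : G → ℂ) (y : G) = (Nat.card P : ℂ) * ((lam y : ℂˣ) : ℂ)) →
      ∀ y : Subgroup.normalizer (P : Set G), (y : G) ∉ P →
        (θ : G → ℂ) (y : G) = ((lam y : ℂˣ) : ℂ) := by
    intro θ hθ lam hlam y hy
    have h1 := hout θ hθ y y.2 hy
    rw [hlam y, hcardP] at h1
    exact (mul_left_cancel₀ hp0 h1).symm
  constructor
  · obtain ⟨θ, hθ⟩ : Y.Nonempty := by
      rw [← Finset.card_pos, h.cardY]
      have := h.ht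
      omega
    obtain ⟨lam, hlam⟩ := hhom θ hθ
    -- `lam` is not trivial
    have hne : ∃ y₀ : Subgroup.normalizer (P : Set G), lam y₀ ≠ 1 := by
      by_contra hcon
      push Not at hcon
      have hsum : ∑ y : Subgroup.normalizer (P : Set G), psum P (θ : G → ℂ) (y : G) = 0 :=
        BRII5aux.sum_psum_eq_zero _ P hPN _ (hY1 θ hθ).2
      have hsum2 : ∑ y : Subgroup.normalizer (P : Set G), psum P (θ : G → ℂ) (y : G) =
          (Nat.card (Subgroup.normalizer (P : Set G)) : ℂ) * (p : ℂ) := by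
        have e2 : ∀ y : Subgroup.normalizer (P : Set G), psum P (θ : G → ℂ) (y : G) = (p : ℂ) := by
          intro y
          rw [hlam y, hcon y, hcardP, Units.val_one, mul_one]
        rw [Finset.sum_congr rfl (fun y _ => e2 y), Finset.sum_const, Finset.card_univ,
          nsmul_eq_mul, Nat.card_eq_fintype_card]
      rw [hsum, h.cardN] at hsum2
      have h3 : ((e * p : ℕ) : ℂ) ≠ 0 := by
        have := h.he
        exact Nat.cast_ne_zero.mpr (Nat.mul_ne_zero (by omega) hp.pos.ne')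
      exact (mul_ne_zero h3 hp0) hsum2.symm
    obtain ⟨y₀, hy₀⟩ := hne
    have hy₀' : ((lam y₀ : ℂˣ) : ℂ) ≠ 1 := fun hc => hy₀ (Units.ext hc)
    -- `y₀ ∉ P`
    have hy₀P : (y₀ : G) ∉ P := by
      intro hc
      have h1 : psum P (θ : G → ℂ) (1 * (y₀ : G)) = psum P (θ : G → ℂ) 1 :=
        BRII5aux.psum_mul_right P _ 1 _ hc
      rw [one_mul, hlam y₀, (hY1 θ hθ).1, hcardP] at h1
      exact hy₀' (mul_left_cancel₀ hp0 (h1.trans (mul_one _).symm))
    have hval := key θ hθ lam hlam y₀ hy₀P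
    -- `θ y₀` is real
    have hreal : conj ((lam y₀ : ℂˣ) : ℂ) = ((lam y₀ : ℂˣ) : ℂ) := by
      rw [← hval]
      have ht1 := h.t1 θ hθ (y₀ : G) (hreg _ y₀.2 hy₀P)
      have hB0 : ∑ χ ∈ B, (χ : G → ℂ) (y₀ : G) = 0 :=
        Finset.sum_eq_zero (fun χ hχ => hBv χ hχ _ y₀.2 hy₀P)
      rw [hB0, hε, sub_zero] at ht1
      have h5 : (θ : G → ℂ) (y₀ : G) = -(1 + ∑ χ ∈ A, (χ : G → ℂ) (y₀ : G)) := by
        rw [← ht1]
        push_cast
        ring
      rw [h5, map_neg, map_add, map_one, hAconj]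
    have hord : lam y₀ ^ orderOf y₀ = 1 := by
      rw [← map_pow, pow_orderOf_eq_one, map_one]
    have hord0 : orderOf y₀ ≠ 0 := (orderOf_pos y₀).ne'
    have hm1 : ((lam y₀ : ℂˣ) : ℂ) = -1 := by
      rcases BRII5aux.unit_real_of_pow (lam y₀) (orderOf y₀) hord0 hord hreal with h6 | h6
      · exact absurd h6 hy₀'
      · exact h6
    have heven : Even (orderOf y₀) := by
      rcases Nat.even_or_odd (orderOf y₀) with h7 | h7
      · exact h7
      · exfalso
        have h8 : ((lam y₀ : ℂˣ) : ℂ) ^ orderOf y₀ = 1 := by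
          rw [← Units.val_pow_eq_pow_val, hord, Units.val_one]
        rw [hm1, h7.neg_one_pow] at h8
        norm_num at h8
    obtain ⟨k, hk⟩ := heven
    have hk0 : k ≠ 0 := by omega
    have hτ2 : orderOf (y₀ ^ k) = 2 := by
      apply orderOf_eq_prime
      · rw [← pow_mul, mul_two, ← hk, pow_orderOf_eq_one]
      · exact pow_ne_one_of_lt_orderOf hk0 (by omega)
    refine ⟨((y₀ ^ k : Subgroup.normalizer (P : Set G)) : G), (y₀ ^ k).2, ?_⟩
    rw [Subgroup.orderOf_coe, hτ2]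
  · intro τ hτ hτ2 θ hθ
    obtain ⟨lam, hlam⟩ := hhom θ hθ
    have hτP : τ ∉ P := by
      intro hc
      have h1 : orderOf (⟨τ, hc⟩ : P) ∣ Nat.card P := orderOf_dvd_natCard _
      rw [Subgroup.orderOf_mk, hτ2, h.cardP] at h1
      have h2 := (Nat.prime_dvd_prime_iff_eq Nat.prime_two hp).mp h1
      have := h.hp5
      omega
    have h1 := key θ hθ lam hlam ⟨τ, hτ⟩ hτP
    have h2 : ((lam ⟨τ, hτ⟩ : ℂˣ) : ℂ) ^ 2 = 1 := by
      rw [← Units.val_pow_eq_pow_val, ← map_pow]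
      have h3 : (⟨τ, hτ⟩ : Subgroup.normalizer (P : Set G)) ^ 2 = 1 := by
        apply Subtype.ext
        change τ ^ 2 = 1
        rw [← hτ2, pow_orderOf_eq_one]
      rw [h3, map_one, Units.val_one]
    change (θ : G → ℂ) τ = _ at h1
    rw [h1]
    have h4 : (((lam ⟨τ, hτ⟩ : ℂˣ) : ℂ) - 1) * (((lam ⟨τ, hτ⟩ : ℂˣ) : ℂ) + 1) = 0 := by
      linear_combination h2
    rcases mul_eq_zero.mp h4 with h5 | h5
    · left; exact sub_eq_zero.mp h5
    · right; exact eq_neg_of_add_eq_zero_left h5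

end T

end Cfsg.Agent.Lib.Helper10.BR
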