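import Mathlib
import Cfsg.Agent.Lib.Helper10.BR0
import Cfsg.Agent.S0840

/-!
# S0999 piece BR-II6 (helper64 for helper10): the class equation at `(τ, τ, x)` in
configuration (II)
-/

set_option autoImplicit false

namespace Cfsg.Agent.Lib.Helper10.BR

open Cfsg
open Cfsg.Agent.Lib.Helper83 (trivIrr)
open scoped ComplexConjugate

section T

variable {G : Type*} [Group G] [Fintype G] {p e t : ℕ} {P : Subgroup G} {ε : ℤ} {x₀ : ℕ}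
  {A B Y D : Finset (IrrCharacter G)}

/-- BR-II6 -/
theorem class_eq1_of (h : Tab G p e t P ε x₀ A B Y D) (hε : ε = -1) (hx : x₀ = p - e)
    (τ : G) (hτ2 : orderOf τ = 2) (x : G) (hxP : x ∈ P) (hx1 : x ≠ 1)
    (hcount : Nat.card {q : G × G // IsConj τ q.1 ∧ IsConj τ q.2 ∧ q.1 * q.2 = x} = p)
    (hF1 : ∑ θ ∈ Y, (θ : G → ℂ) x = -(ε : ℂ))
    (hBv : ∀ χ ∈ B, (χ : G → ℂ) τ = 0)
    (hθ : ∀ θ ∈ Y, (θ : G → ℂ) τ = 1 ∨ (θ : G → ℂ) τ = -1) :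
    ((Nat.card (Subgroup.centralizer ({τ} : Set G)) : ℂ)) ^ 2 =
      (((p - 1) * (p - e + 1) : ℕ) : ℂ) + (e : ℂ) * ∑ χ ∈ A, ((χ : G → ℂ) τ) ^ 2 := by
  classical
  have : Finite (IrrCharacter G) := Cfsg.Agent.Lib.Helper83.irr_finite
  let _ : Fintype (IrrCharacter G) := Fintype.ofFinite _
  have hp : p.Prime := h.hp
  have het := h.het
  have ht := h.ht
  have he := h.he
  have hp5 := h.hp5
  have hep : e < p := by
    have h1 : e * 1 ≤ e * t := Nat.mul_le_mul_left e (by omega)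
    omega
  -- casts
  have hp1 : ((p - 1 : ℕ) : ℂ) = (p : ℂ) - 1 := by
    rw [Nat.cast_sub hp.one_lt.le, Nat.cast_one]
  have hET : (e : ℂ) * (t : ℂ) = (p : ℂ) - 1 := by
    rw [← hp1, ← het, Nat.cast_mul]
  have hpe : ((p - e : ℕ) : ℂ) = (p : ℂ) - (e : ℂ) := Nat.cast_sub hep.le
  have hpe0 : (p : ℂ) - (e : ℂ) ≠ 0 := by
    rw [← hpe]
    exact Nat.cast_ne_zero.mpr (by omega)
  have ht0 : (t : ℂ) ≠ 0 := Nat.cast_ne_zero.mpr (by omega)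
  have he0 : (e : ℂ) ≠ 0 := Nat.cast_ne_zero.mpr (by omega)
  have hp0 : (p : ℂ) ≠ 0 := Nat.cast_ne_zero.mpr hp.pos.ne'
  have hz0 : (Nat.card (Subgroup.centralizer ({τ} : Set G)) : ℂ) ≠ 0 :=
    Nat.cast_ne_zero.mpr Nat.card_pos.ne'
  have hGc : (Nat.card G : ℂ) = (p : ℂ) * ((e : ℂ) * (t : ℂ)) * ((p : ℂ) - (e : ℂ)) := by
    rw [h.cardG, Nat.cast_mul, Nat.cast_mul, hpe, hp1, hET]
  have hKz : (Nat.card {g : G // IsConj τ g} : ℂ) *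
      (Nat.card (Subgroup.centralizer ({τ} : Set G)) : ℂ) =
      (p : ℂ) * ((e : ℂ) * (t : ℂ)) * ((p : ℂ) - (e : ℂ)) := by
    rw [← hGc, ← Nat.cast_mul, Cfsg.Agent.Lib.Helper83.card_conj_mul_card_centralizer τ]
  -- the character sum
  have hsum : ∑ᶠ χ : IrrCharacter G, (χ : G → ℂ) τ * (χ : G → ℂ) τ * conj ((χ : G → ℂ) x) /
      (χ : G → ℂ) 1 = 1 + (∑ χ ∈ A, ((χ : G → ℂ) τ) ^ 2) / ((t : ℂ) * ((p : ℂ) - (e : ℂ))) +
        1 / ((p : ℂ) - (e : ℂ)) := by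
    rw [finsum_eq_sum_of_fintype, h.sum_split]
    have hA : ∑ χ ∈ A, (χ : G → ℂ) τ * (χ : G → ℂ) τ * conj ((χ : G → ℂ) x) / (χ : G → ℂ) 1 =
        (∑ χ ∈ A, ((χ : G → ℂ) τ) ^ 2) / ((t : ℂ) * ((p : ℂ) - (e : ℂ))) := by
      rw [Finset.sum_div]
      refine Finset.sum_congr rfl (fun χ hχ => ?_)
      rw [h.valA χ hχ x hxP hx1, h.degA χ hχ, map_one, mul_one, Nat.cast_mul, hpe, sq]
    have hB : ∑ χ ∈ B, (χ : G → ℂ) τ * (χ : G → ℂ) τ * conj ((χ : G → ℂ) x) / (χ : G → ℂ) 1 =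
        0 := Finset.sum_eq_zero (fun χ hχ => by rw [hBv χ hχ]; simp)
    have hD : ∑ χ ∈ D, (χ : G → ℂ) τ * (χ : G → ℂ) τ * conj ((χ : G → ℂ) x) / (χ : G → ℂ) 1 =
        0 := Finset.sum_eq_zero (fun χ hχ => by rw [h.valD χ hχ x hxP hx1]; simp)
    have hYs : ∑ θ ∈ Y, (θ : G → ℂ) τ * (θ : G → ℂ) τ * conj ((θ : G → ℂ) x) / (θ : G → ℂ) 1 =
        1 / ((p : ℂ) - (e : ℂ)) := by
      have e1 : ∀ θ ∈ Y, (θ : G → ℂ) τ * (θ : G → ℂ) τ * conj ((θ : G → ℂ) x) /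
          (θ : G → ℂ) 1 = conj ((θ : G → ℂ) x) / ((p : ℂ) - (e : ℂ)) := by
        intro θ hθY
        have h2 : (θ : G → ℂ) τ * (θ : G → ℂ) τ = 1 := by
          rcases hθ θ hθY with h1 | h1 <;> rw [h1] <;> norm_num
        rw [h2, one_mul, h.degY θ hθY, hx, hpe]
      rw [Finset.sum_congr rfl e1, ← Finset.sum_div, ← map_sum, hF1, hε]
      simp
    rw [hA, hB, hD, hYs]
    have htriv : (trivIrr G : G → ℂ) τ * (trivIrr G : G → ℂ) τ *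
        conj ((trivIrr G : G → ℂ) x) / (trivIrr G : G → ℂ) 1 = 1 := by
      simp [Cfsg.Agent.Lib.Helper83.trivIrr_apply]
    rw [htriv]
    ring
  have hS := Cfsg.Agent.S0840.result τ τ x
  rw [hcount, hsum, hGc] at hS
  -- algebra
  have hK : (Nat.card {g : G // IsConj τ g} : ℂ) =
      (p : ℂ) * ((e : ℂ) * (t : ℂ)) * ((p : ℂ) - (e : ℂ)) /
        (Nat.card (Subgroup.centralizer ({τ} : Set G)) : ℂ) := eq_div_of_mul_eq hz0 hKz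
  rw [hK] at hS
  have hcast : (((p - 1) * (p - e + 1) : ℕ) : ℂ) = (e : ℂ) * (t : ℂ) * ((p : ℂ) - (e : ℂ) + 1) := by
    rw [Nat.cast_mul, Nat.cast_add, hpe, hp1, hET, Nat.cast_one]
  rw [hcast]
  have h3 : (p : ℂ) * (Nat.card (Subgroup.centralizer ({τ} : Set G)) : ℂ) ^ 2 =
      (p : ℂ) * ((e : ℂ) * (t : ℂ) * ((p : ℂ) - (e : ℂ) + 1) +
        (e : ℂ) * ∑ χ ∈ A, ((χ : G → ℂ) τ) ^ 2) := by
    have h4 : (p : ℂ) * (Nat.card (Subgroup.centralizer ({τ} : Set G)) : ℂ) ^ 2 =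
        (p : ℂ) * ((e : ℂ) * (t : ℂ)) * ((p : ℂ) - (e : ℂ)) / (Nat.card (Subgroup.centralizer ({τ} : Set G)) : ℂ) *
          ((p : ℂ) * ((e : ℂ) * (t : ℂ)) * ((p : ℂ) - (e : ℂ)) / (Nat.card (Subgroup.centralizer ({τ} : Set G)) : ℂ)) /
          ((p : ℂ) * ((e : ℂ) * (t : ℂ)) * ((p : ℂ) - (e : ℂ))) *
        (1 + (∑ χ ∈ A, ((χ : G → ℂ) τ) ^ 2) / ((t : ℂ) * ((p : ℂ) - (e : ℂ))) +
          1 / ((p : ℂ) - (e : ℂ))) * (Nat.card (Subgroup.centralizer ({τ} : Set G)) : ℂ) ^ 2 := by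
      rw [← hS]
    rw [h4]
    field_simp
    ring
  exact mul_left_cancel₀ hp0 h3

end T

end Cfsg.Agent.Lib.Helper10.BR
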