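import Mathlib
import Cfsg.Agent.Lib.Helper22.HPDefs
import Cfsg.Agent.Lib.Helper83.IrrBasic
import Cfsg.Agent.Lib.Helper82.PQ
import Cfsg.Agent.Lib.Helper67.BFZCENT
import Cfsg.Agent.Lib.Helper31.HPETA
import Cfsg.Agent.Lib.Helper31.HPN4DEC
import Cfsg.Agent.Lib.Helper83.HPKFZ
import Cfsg.Agent.Lib.Helper83.HPLB
import Cfsg.Agent.Lib.Helper87.HPNOLIN
import Cfsg.Agent.Lib.Helper58.HPIRR
import Cfsg.Agent.Lib.Helper22.HPTYPES
import Cfsg.Agent.Lib.Helper64.HPN4CORE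

/-!
# S4504 (HP project of helper22): TOP PIECE NORM4 (helper64; sub-pieces by helper4, helper31)
-/

set_option autoImplicit false
set_option linter.style.haveILetI false

namespace Cfsg.Agent.Lib.Helper64.HPT

open Cfsg Cfsg.Agent.Lib.Helper22.BFD Cfsg.Agent.Lib.Helper22.HPD
open scoped ComplexConjugate

universe u

/-- TOP PIECE NORM4 -/
theorem hp_norm4 {G : Type u} [Group G] [Fintype G] (p : ℕ) [Fact p.Prime]
    (hdiv : p ∣ Nat.card G) (hsq : ¬ p ^ 2 ∣ Nat.card G)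
    (hnn : ∀ H : Subgroup G, H.Normal → Nat.card H ≠ p)
    (χ : IrrCharacter G) (hfaith : ∀ g : G, χ.1 g = χ.1 1 → g = 1)
    (hdeg : 2 * charDegree χ.1 + 1 = p) (z : G) (ζ : ℂ) (hHP : HP p ζ z χ.1) :
    (Nat.card G : ℝ) * (1 + ((charDegree χ.1 / 2 : ℕ) : ℝ)) ≤ ∑ g : G, ‖χ.1 g‖ ^ 4 := by
  classical
  have hp : p.Prime := Fact.out
  haveI : Finite (IrrCharacter G) := Cfsg.Agent.Lib.Helper82.finite_irrCharacter G
  letI : Fintype (IrrCharacter G) := Fintype.ofFinite _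
  have hp2 : p ≠ 2 := by omega
  obtain ⟨hSq, heta0, -, -, hpars, -⟩ := Cfsg.Agent.Lib.Helper31.HPT.eta_facts p hp2 ζ hHP.hζ
  obtain ⟨m, hdec, hinner, hm1, hmdeg, hm4⟩ := Cfsg.Agent.Lib.Helper31.HPT.norm4_dec χ
  have hEf : (Ef p z).card = charDegree χ.1 := by
    have h1 : Ef p z = Sq p := by
      ext k
      unfold Ef
      rw [Finset.mem_filter]
      simp only [Finset.mem_univ, true_and]
      exact hHP.hE k
    rw [h1, hSq]
    omega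
  have hirr : ∀ (H : Type u) [Group H] [Finite H], p ∣ Nat.card H → ¬ p ^ 2 ∣ Nat.card H →
      (∀ L : Subgroup H, L.Normal → Nat.card L ≠ p) → ∀ ψ : H → ℂ, IsCharacter H ψ →
      (∀ g : H, ψ g = ψ 1 → g = 1) → 2 * charDegree ψ + 1 = p → IsIrrCharacter H ψ :=
    fun H _ _ hd hs hn ψ hψ hf hdg =>
      (Cfsg.Agent.Lib.Helper58.HPT.hp_irr p hp hd hs hn ψ hψ hf hdg).1
  exact hp_norm4_core p χ (charDegree χ.1) rfl hdeg z ζ hHP m hdec hinner hm1 hmdeg hm4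
    (fun μ hμ hne =>
      Cfsg.Agent.Lib.Helper87.HPT.hp_nolin p hirr hdiv hsq hnn χ hfaith hdeg μ hμ hne)
    (fun φ hd => Cfsg.Agent.Lib.Helper83.HPT.hp_lb p (charDegree χ.1) hdeg z hHP.hz hEf φ hd
      (Cfsg.Agent.Lib.Helper22.HPT.hp_types p hdiv hsq z hHP.hz φ))
    (Cfsg.Agent.Lib.Helper83.HPT.hp_kfz p hnn χ.1 z ζ hHP)
    heta0 hpars

end Cfsg.Agent.Lib.Helper64.HPT
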