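import Cfsg.Agent.Lib.Helper41.TW3

/-!
Thompson–Wielandt setting, piece S1II: a component of `A2` is a component of `B2` when
`O_q(B2) ≠ 1`.
-/

set_option autoImplicit false

namespace Cfsg.Agent.Lib.Helper64.TWP

open Cfsg Cfsg.Agent.Lib.Helper66 Cfsg.Agent.Lib.Helper41.TW

variable {G : Type*} [Group G] [Finite G] {X Y A1 B1 A2 B2 : Subgroup G}

theorem step1_II (S : Setting X Y A1 B1 A2 B2) (hYX : ∀ J', RC J' Y → J' ≤ X)
    {J0 : Subgroup G} (h0 : RC J0 A2) {q : ℕ} (hq : q.Prime) (hB : rp q B2 ≠ ⊥)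
    (hQS : ∀ J C : Subgroup G, QS J → J ≠ ⊥ → C ≤ J → J ≤ Subgroup.normalizer (C : Set G) →
      (∀ y ∈ J, (orderOf y).Coprime q → y ∈ C) → C = J) :
    RC J0 B2 := by
  have hJA1 : ∀ J', RC J' Y → J' ≤ A1 := by
    intro J' h'
    have hJX : J' ≤ X := hYX J' h'
    have hJY : J' ≤ Y := h'.le
    have hJnB : J' ≤ Subgroup.normalizer ((rp q X ⊓ Y : Subgroup G) : Set G) :=
      inf_le_normalizer_inf (hJX.trans (le_normalizer_rp q X)) (hJY.trans Subgroup.le_normalizer)
    have hBq : IsPGroup q ↥(rp q X ⊓ Y) := (rp_isPGroup q X).to_le inf_le_left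
    have hW : RC J' (J' ⊔ (rp q X ⊓ Y)) := h'.of_le le_sup_left (sup_le hJY inf_le_right)
    have hWn : J' ⊔ (rp q X ⊓ Y) ≤ Subgroup.normalizer ((rp q X ⊓ Y : Subgroup G) : Set G) :=
      sup_le hJnB Subgroup.le_normalizer
    have hJcB : J' ≤ Subgroup.centralizer ((rp q X ⊓ Y : Subgroup G) : Set G) :=
      hW.le_centralizer_pgroup hq le_sup_right hWn hBq
    have hCn : J' ≤ Subgroup.normalizer
        ((J' ⊓ Subgroup.centralizer ((rp q X : Subgroup G) : Set G) : Subgroup G) : Set G) :=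
      inf_le_normalizer_inf Subgroup.le_normalizer
        ((hJX.trans (le_normalizer_rp q X)).trans (normalizer_le_normalizer_centralizer _))
    have hC := hQS J' (J' ⊓ Subgroup.centralizer ((rp q X : Subgroup G) : Set G)) h'.qs h'.ne
      inf_le_left hCn
      (fun y hy hcop => by
        refine ⟨hy, Subgroup.mem_centralizer_iff.2 ?_⟩
        intro c hc
        have h1 := S.thompson_step hq hB (hJX hy) hcop (fun b hb =>
          ((Subgroup.mem_centralizer_iff.1 (hJcB hy)) b hb).symm) c hc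
        exact h1.eq.symm)
    have hJc : J' ≤ Subgroup.centralizer ((rp q X : Subgroup G) : Set G) := by
      intro x hx
      have hx' : x ∈ J' ⊓ Subgroup.centralizer ((rp q X : Subgroup G) : Set G) := by
        rw [hC]; exact hx
      exact hx'.2
    exact (le_inf hJX hJc).trans (S.inf_centralizer_rp_le_A1 hB)
  have hEn : Y ≤ Subgroup.normalizer ((sSup {J | RC J Y} : Subgroup G) : Set G) :=
    le_normalizer_sSup_rc Subgroup.le_normalizer
  have hEA1 : sSup {J | RC J Y} ≤ A1 := sSup_le (fun J' h' => hJA1 J' h')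
  have hEY : sSup {J | RC J Y} ≤ Y := sSup_rc_le Y
  have hEX : sSup {J | RC J Y} ≤ X := sSup_le (fun J' h' => hYX J' h')
  have hEB1 : sSup {J | RC J Y} ≤ B1 := S.le_B1 hEY hEX hEn
  have hEB2 : sSup {J | RC J Y} ≤ B2 := S.le_B2 hEB1 hEA1 hEn
  have h0Y : RC J0 Y :=
    (h0.of_normal S.A2_le_B1 S.B1_norm_A2).of_normal S.B1_le_Y S.Y_norm_B1
  exact h0Y.of_le ((le_sSup (show J0 ∈ {J | RC J Y} from h0Y)).trans hEB2) S.B2_le_Y

end Cfsg.Agent.Lib.Helper64.TWP
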