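import Cfsg.Agent.Lib.Helper45.FPDefs

/-!
# S2276 leaf ARRE (helper64 for helper45): from fibres, fibre coordinates and `β` to an
embedding `e : ZMod ℓ ↪ α` and the model permutation `M`
-/

set_option autoImplicit false

namespace Cfsg.Agent.Lib.Helper64.FP

open Equiv Cfsg.Agent.Lib.Helper45.FP

/-- ARRE: coordinates -/
theorem ARRE {α : Type*} [Fintype α] [DecidableEq α] (p : ℕ) (w : Perm α) (J μ ℓ : ℕ)
    (hℓ : ℓ = J * (p * μ)) [NeZero ℓ]
    (G : ZMod J → Finset α) (hG : ∀ k, ∀ x ∈ G k, w x ∈ G k) (hGc : ∀ k, (G k).card = p * μ)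
    (hGd : ∀ k k', k ≠ k' → Disjoint (G k) (G k'))
    (hfib : ∀ F : Finset α, (∀ x ∈ F, w x ∈ F) → F.card = p * μ →
      ∃ γ : ZMod (p * μ) ↪ α, (∀ y, γ y ∈ F) ∧
        ((∀ y, w (γ y) = γ (y + 1)) ∨ (∀ x ∈ F, (w ^ μ) x = x)))
    (hbeta : ∃ β : ZMod J × ZMod (p * μ) ≃ ZMod ℓ,
      (∀ k y, (ZMod.cast (β (k, y)) : ZMod J) = k) ∧
      (∀ k y, β (k, y + 1) = β (k, y) + (J : ZMod ℓ))) :
    ∃ (e : ZMod ℓ ↪ α) (M : Perm (ZMod ℓ)),
      (∀ z, w (e z) = e (M z)) ∧
      (∀ z : ZMod ℓ, (ZMod.cast (M z) : ZMod J) = ZMod.cast z) ∧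
      (∀ z : ZMod ℓ, e z ∈ G (ZMod.cast z)) ∧
      (∀ k : ZMod J, (∀ z : ZMod ℓ, (ZMod.cast z : ZMod J) = k → M z = z + (J : ZMod ℓ)) ∨
        (∀ z : ZMod ℓ, (ZMod.cast z : ZMod J) = k → (M ^ μ) z = z)) := by
  obtain ⟨β, hβ1, hβ2⟩ := hbeta
  have hne : NeZero (p * μ) := by
    refine ⟨?_⟩
    intro h0
    apply NeZero.ne ℓ
    rw [hℓ, h0, mul_zero]
  choose γ hγmem hγalt using fun k => hfib (G k) (hG k) (hGc k)
  -- `γ k` is onto `G k`
  have hγsurj : ∀ k, ∀ x ∈ G k, ∃ y, γ k y = x := by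
    intro k x hx
    have hsub : Finset.univ.map (γ k) ⊆ G k := by
      intro a ha
      obtain ⟨y, -, rfl⟩ := Finset.mem_map.mp ha
      exact hγmem k y
    have hcard : (G k).card ≤ (Finset.univ.map (γ k)).card := by
      rw [Finset.card_map, Finset.card_univ, ZMod.card, hGc k]
    have heq := Finset.eq_of_subset_of_card_le hsub hcard
    rw [← heq] at hx
    obtain ⟨y, -, hy⟩ := Finset.mem_map.mp hx
    exact ⟨y, hy⟩
  -- the class of `z` is the first coordinate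
  have hcast : ∀ z : ZMod ℓ, (ZMod.cast z : ZMod J) = (β.symm z).1 := by
    intro z
    have h1 := hβ1 (β.symm z).1 (β.symm z).2
    rw [Prod.mk.eta, β.apply_symm_apply] at h1
    exact h1
  -- the embedding
  have he₀ : Function.Injective (fun a : ZMod J × ZMod (p * μ) => γ a.1 a.2) := by
    rintro ⟨k, y⟩ ⟨k', y'⟩ hab
    simp only at hab
    have hk : k = k' := by
      by_contra hkne
      have hd := hGd k k' hkne
      exact (Finset.disjoint_left.mp hd (hγmem k y)) (hab ▸ hγmem k' y')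
    subst hk
    rw [(γ k).injective hab]
  obtain ⟨e, hedef⟩ : ∃ e : ZMod ℓ ↪ α, ∀ z, e z = γ (β.symm z).1 (β.symm z).2 :=
    ⟨⟨fun z => γ (β.symm z).1 (β.symm z).2, he₀.comp β.symm.injective⟩, fun z => rfl⟩
  have heβ : ∀ k y, e (β (k, y)) = γ k y := by
    intro k y
    rw [hedef, β.symm_apply_apply]
  have he_mem : ∀ z, e z ∈ G (ZMod.cast z) := by
    intro z
    rw [hedef, hcast z]
    exact hγmem _ _
  have hsurj : ∀ k, ∀ x ∈ G k, ∃ z, e z = x := by
    intro k x hx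
    obtain ⟨y, hy⟩ := hγsurj k x hx
    exact ⟨β (k, y), by rw [heβ, hy]⟩
  have hex : ∀ z, ∃ z', e z' = w (e z) := fun z =>
    hsurj (ZMod.cast z) (w (e z)) (hG _ _ (he_mem z))
  choose f hf using hex
  have hfinj : Function.Injective f := by
    intro z z' hzz
    have h1 : w (e z) = w (e z') := by rw [← hf z, ← hf z', hzz]
    exact e.injective (w.injective h1)
  obtain ⟨M, hM⟩ : ∃ M : Perm (ZMod ℓ), ∀ z, M z = f z :=
    ⟨Equiv.ofBijective f ⟨hfinj, Finite.injective_iff_surjective.mp hfinj⟩, fun z => rfl⟩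
  have h1 : ∀ z, w (e z) = e (M z) := by
    intro z
    rw [hM, hf]
  have h2 : ∀ z : ZMod ℓ, (ZMod.cast (M z) : ZMod J) = ZMod.cast z := by
    intro z
    by_contra hne'
    have hd := hGd _ _ hne'
    have ha : e (M z) ∈ G (ZMod.cast (M z)) := he_mem (M z)
    have hb : e (M z) ∈ G (ZMod.cast z) := by
      rw [← h1]
      exact hG _ _ (he_mem z)
    exact (Finset.disjoint_left.mp hd ha) hb
  have hpow : ∀ (n : ℕ) (z : ZMod ℓ), (w ^ n) (e z) = e ((M ^ n) z) := by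
    intro n
    induction n with
    | zero =>
      intro z
      simp
    | succ n ih =>
      intro z
      rw [pow_succ', pow_succ', Perm.mul_apply, Perm.mul_apply, ih, h1]
  refine ⟨e, M, h1, h2, he_mem, ?_⟩
  intro k
  rcases hγalt k with halt | halt
  · left
    intro z hz
    have hzβ : β (k, (β.symm z).2) = z := by
      rw [← hz, hcast z, Prod.mk.eta, β.apply_symm_apply]
    apply e.injective
    rw [← h1]
    conv_lhs => rw [← hzβ]
    rw [heβ, halt, ← heβ, hβ2, hzβ]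
  · right
    intro z hz
    apply e.injective
    rw [← hpow]
    apply halt
    rw [← hz]
    exact he_mem z

end Cfsg.Agent.Lib.Helper64.FP
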