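import Cfsg.Agent.Lib.Helper45.FPDefs

/-!
# S2276 leaf PL1 (helper64 for helper45): placement of two elements of order 3 with two
3-orbits each
-/

set_option autoImplicit false

namespace Cfsg.Agent.Lib.Helper64.FP

open Equiv Cfsg.Agent.Lib.Helper45.FP

theorem PL1_ne {α : Type*} (v : Perm α) (hv : ∀ a, v (v (v a)) = a) (x y : α) (hx : v x ≠ x)
    (hy : v y ≠ y) (hxy : ∀ k : ℕ, (v ^ k) x ≠ y) :
    v (v x) ≠ x ∧ v (v y) ≠ y ∧ x ≠ y ∧ v x ≠ y ∧ v (v x) ≠ y ∧ v y ≠ x ∧ v (v y) ≠ x := by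
  have h2 : ∀ a : α, (v ^ 2) a = v (v a) := by
    intro a
    rw [pow_two]
    rfl
  refine ⟨?_, ?_, ?_, ?_, ?_, ?_, ?_⟩
  · intro h
    apply hx
    have h1 := congrArg v h
    rw [hv] at h1
    exact h1.symm
  · intro h
    apply hy
    have h1 := congrArg v h
    rw [hv] at h1
    exact h1.symm
  · intro h
    exact hxy 0 (by simpa using h)
  · intro h
    exact hxy 1 (by simpa using h)
  · intro h
    exact hxy 2 (by rw [h2]; exact h)
  · intro h
    apply hxy 2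
    rw [h2, ← h, hv]
  · intro h
    apply hxy 1
    rw [pow_one, ← h, hv]

theorem PL1_tabA : ∀ z : Fin 6,
    (cyc3 (0 : Fin 6) 1 2 * cyc3 (3 : Fin 6) 4 5) z = ![1, 2, 0, 4, 5, 3] z := by
  decide

theorem PL1_tabB : ∀ z : Fin 6,
    (cyc3 (0 : Fin 6) 1 3 * cyc3 (2 : Fin 6) 5 4) z = ![1, 3, 5, 0, 2, 4] z := by
  decide

/-- PL1 -/
theorem PL1 {α : Type*} [Fintype α] [DecidableEq α] (u w : Perm α) (hu3 : u ^ 3 = 1)
    (hw3 : w ^ 3 = 1)
    (x y : α) (hx : u x ≠ x) (hy : u y ≠ y) (hxy : ∀ k : ℕ, (u ^ k) x ≠ y)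
    (x' y' : α) (hx' : w x' ≠ x') (hy' : w y' ≠ y') (hxy' : ∀ k : ℕ, (w ^ k) x' ≠ y') :
    ∃ (ι : Fin 6 ↪ α) (h : Perm α),
      (∀ z, u (ι z) = ι ((cyc3 (0 : Fin 6) 1 2 * cyc3 (3 : Fin 6) 4 5) z)) ∧
      (∀ z, (h * w * h⁻¹) (ι z) = ι ((cyc3 (0 : Fin 6) 1 3 * cyc3 (2 : Fin 6) 5 4) z)) := by
  have hu : ∀ a : α, u (u (u a)) = a := by
    intro a
    have h := congrArg (fun f : Perm α => f a) hu3
    simpa [pow_succ] using h
  have hw : ∀ a : α, w (w (w a)) = a := by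
    intro a
    have h := congrArg (fun f : Perm α => f a) hw3
    simpa [pow_succ] using h
  obtain ⟨f2, g2, n1, n2, n3, n4, n5⟩ := PL1_ne u hu x y hx hy hxy
  obtain ⟨f2', g2', n1', n2', n3', n4', n5'⟩ := PL1_ne w hw x' y' hx' hy' hxy'
  have hι : Function.Injective ![x, u x, u (u x), y, u y, u (u y)] := by
    intro i j hij
    fin_cases i <;> fin_cases j <;>
      simp [hx, hx.symm, hy, hy.symm, f2, f2.symm, g2, g2.symm, n1, n1.symm, n2, n2.symm,
        n3, n3.symm, n4, n4.symm, n5, n5.symm] at hij ⊢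
  have he : Function.Injective ![x', w x', y', w (w x'), w (w y'), w y'] := by
    intro i j hij
    fin_cases i <;> fin_cases j <;>
      simp [hx', hx'.symm, hy', hy'.symm, f2', f2'.symm, g2', g2'.symm, n1', n1'.symm, n2',
        n2'.symm, n3', n3'.symm, n4', n4'.symm, n5', n5'.symm] at hij ⊢
  obtain ⟨h, hh⟩ := Equiv.Perm.exists_extending_pair _ _ he hι
  refine ⟨⟨_, hι⟩, h, ?_, ?_⟩
  · intro z
    rw [PL1_tabA z]
    fin_cases z <;> simp [hu]
  · intro z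
    have h1 : h⁻¹ (![x, u x, u (u x), y, u y, u (u y)] z)
        = ![x', w x', y', w (w x'), w (w y'), w y'] z := by
      rw [Equiv.Perm.inv_eq_iff_eq, hh]
    have h2 : w (![x', w x', y', w (w x'), w (w y'), w y'] z)
        = ![x', w x', y', w (w x'), w (w y'), w y'] (![1, 3, 5, 0, 2, 4] z) := by
      fin_cases z <;> simp [hw]
    rw [PL1_tabB z]
    change h (w (h⁻¹ (![x, u x, u (u x), y, u y, u (u y)] z))) = _
    rw [h1, h2, hh]
    rfl

end Cfsg.Agent.Lib.Helper64.FP
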