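import Mathlib
import Cfsg.Agent.Lib.Helper10.BR0

/-!
# S0999 piece BR-G5 (helper64 for helper10): Sylow bookkeeping for a Sylow `p`-subgroup of
order `p`
-/

set_option autoImplicit false

namespace Cfsg.Agent.Lib.Helper10.BR

/-- BR-G5 -/
theorem card_decomp {G : Type*} [Group G] [Finite G] (p : ℕ) [Fact p.Prime] (P : Sylow p G)
    (hP : Nat.card P = p) :
    ∃ n v : ℕ, Nat.card (Sylow p G) = 1 + n * p ∧ 1 ≤ v ∧
      Nat.card (Subgroup.centralizer ((P : Subgroup G) : Set G)) = p * v ∧
      Nat.card (Subgroup.normalizer ((P : Subgroup G) : Set G)) =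
        (Subgroup.centralizer ((P : Subgroup G) : Set G)).relIndex
          (Subgroup.normalizer ((P : Subgroup G) : Set G)) * (p * v) ∧
      (Subgroup.centralizer ((P : Subgroup G) : Set G)).index =
        (1 + n * p) * (Subgroup.centralizer ((P : Subgroup G) : Set G)).relIndex
          (Subgroup.normalizer ((P : Subgroup G) : Set G)) ∧
      Nat.card G = (1 + n * p) * ((Subgroup.centralizer ((P : Subgroup G) : Set G)).relIndex
          (Subgroup.normalizer ((P : Subgroup G) : Set G)) * (p * v)) := by
  have hp : p.Prime := Fact.out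
  have hP' : Nat.card (P : Subgroup G) = p := hP
  -- the number of Sylow subgroups
  have hmod := card_sylow_modEq_one p G
  have hpos : 1 ≤ Nat.card (Sylow p G) := Nat.one_le_iff_ne_zero.mpr Nat.card_pos.ne'
  obtain ⟨n, hn⟩ : ∃ n, Nat.card (Sylow p G) = 1 + n * p := by
    have hd : p ∣ Nat.card (Sylow p G) - 1 := (Nat.modEq_iff_dvd' hpos).mp hmod.symm
    obtain ⟨n, hn⟩ := hd
    refine ⟨n, ?_⟩
    rw [mul_comm n p, ← hn]
    omega
  -- `P ≤ C_G(P)`
  have : IsCyclic (P : Subgroup G) := isCyclic_of_prime_card hP'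
  have : IsMulCommutative (P : Subgroup G) :=
    ⟨⟨fun a b => (IsCyclic.commGroup (α := (P : Subgroup G))).mul_comm a b⟩⟩
  have hPC : (P : Subgroup G) ≤ Subgroup.centralizer ((P : Subgroup G) : Set G) :=
    Subgroup.le_centralizer (P : Subgroup G)
  obtain ⟨v, hv⟩ : p ∣ Nat.card (Subgroup.centralizer ((P : Subgroup G) : Set G)) := by
    have := Subgroup.card_dvd_of_le hPC
    rwa [hP'] at this
  have hv1 : 1 ≤ v := by
    rcases Nat.eq_zero_or_pos v with h0 | h0
    · rw [h0, mul_zero] at hv
      exact absurd hv Nat.card_pos.ne'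
    · exact h0
  have hCN : Subgroup.centralizer ((P : Subgroup G) : Set G) ≤
      Subgroup.normalizer ((P : Subgroup G) : Set G) := Subgroup.centralizer_le_normalizer _
  have hidx : Nat.card (Sylow p G) = (Subgroup.normalizer ((P : Subgroup G) : Set G)).index :=
    Sylow.card_eq_index_normalizer P
  have hrel := Subgroup.relIndex_mul_index hCN
  have hC := Subgroup.index_mul_card (Subgroup.centralizer ((P : Subgroup G) : Set G))
  have hN := Subgroup.index_mul_card (Subgroup.normalizer ((P : Subgroup G) : Set G))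
  rw [← hidx, hn] at hrel hN
  have hNcard : Nat.card (Subgroup.normalizer ((P : Subgroup G) : Set G)) =
      (Subgroup.centralizer ((P : Subgroup G) : Set G)).relIndex
        (Subgroup.normalizer ((P : Subgroup G) : Set G)) * (p * v) := by
    have h3 : (1 + n * p) * Nat.card (Subgroup.normalizer ((P : Subgroup G) : Set G)) =
        (1 + n * p) * ((Subgroup.centralizer ((P : Subgroup G) : Set G)).relIndex
          (Subgroup.normalizer ((P : Subgroup G) : Set G)) * (p * v)) := by
      rw [hN, ← hC, ← hrel, hv]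
      ring
    exact Nat.eq_of_mul_eq_mul_left (by omega) h3
  refine ⟨n, v, hn, hv1, hv, hNcard, ?_, ?_⟩
  · rw [← hrel, mul_comm]
  · rw [← hN, hNcard]

end Cfsg.Agent.Lib.Helper10.BR
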