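import Mathlib
import Cfsg.Agent.S4729

/-!
# S0997 piece BW-V (helper5's project; written by helper64)

One-step corollary of S4729: `C(P)` is a `p`-group containing the Sylow `p`-subgroup `P` of
order `p`, hence `C(P) = P`.
-/

set_option autoImplicit false

namespace Cfsg.Agent.Lib.Helper5.BW

open Cfsg
open scoped ComplexConjugate

/-- BW-V -/
theorem cent_eq_of_small {G : Type*} [Group G] [Finite G] (p : ℕ) [Fact p.Prime]
    (M : Ideal AlgInt) (hM : IsPModular p M) (hperf : commutator G = ⊤) (P : Sylow p G)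
    (hP : Nat.card P = p) (θ : IrrCharacter G) (hθ : θ ∈ principalBlock M G)
    (hfaith : ∀ g : G, (θ : G → ℂ) g = (θ : G → ℂ) 1 → g = 1)
    (hdeg : charDegree (θ : G → ℂ) < 2 * p) :
    Subgroup.centralizer ((P : Subgroup G) : Set G) = (P : Subgroup G) := by
  have hpg := Cfsg.Agent.S4729.result p M hM hperf P θ hθ hfaith hdeg
  have hcyc : IsCyclic (P : Subgroup G) := isCyclic_of_prime_card hP
  have hPle : (P : Subgroup G) ≤ Subgroup.centralizer ((P : Subgroup G) : Set G) := by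
    intro a ha
    rw [Subgroup.mem_centralizer_iff]
    intro b hb
    obtain ⟨g, hg⟩ := IsCyclic.exists_generator (α := (P : Subgroup G))
    obtain ⟨i, hi⟩ := Subgroup.mem_zpowers_iff.1 (hg ⟨a, ha⟩)
    obtain ⟨j, hj⟩ := Subgroup.mem_zpowers_iff.1 (hg ⟨b, hb⟩)
    have h1 : (⟨b, hb⟩ : (P : Subgroup G)) * ⟨a, ha⟩ = ⟨a, ha⟩ * ⟨b, hb⟩ := by
      rw [← hi, ← hj, ← zpow_add, ← zpow_add, add_comm]
    exact congrArg Subtype.val h1
  exact P.is_maximal' hpg hPle

end Cfsg.Agent.Lib.Helper5.BW
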