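import Mathlib
import Cfsg.Agent.S4142
import Cfsg.Agent.S0033

set_option autoImplicit false

open scoped Pointwise

namespace Cfsg.Agent.Lib.Helper64.Camina

/-- the norm of `v` under an automorphism `θ` with `θ^p = 1` is fixed by `θ`. -/
theorem norm_fixed {V : Type*} [CommGroup V] (p : ℕ) [Fact p.Prime] (θ : MulAut V)
    (hθ : θ ^ p = 1) (v : V) :
    θ (∏ k : ZMod p, (θ ^ k.val) v) = ∏ k : ZMod p, (θ ^ k.val) v := by
  rw [map_prod]
  have h : ∀ k : ZMod p, θ ((θ ^ k.val) v) = (θ ^ (k + 1).val) v := by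
    intro k
    rw [← MulAut.mul_apply, ← pow_succ']
    have e : θ ^ (k.val + 1) = θ ^ (k + 1).val := by
      rw [pow_eq_pow_mod (k.val + 1) hθ, pow_eq_pow_mod ((k + 1).val) hθ]
      congr 1
      rw [ZMod.val_add, ZMod.val_one, Nat.mod_mod]
    rw [e]
  rw [Finset.prod_congr rfl (fun k _ => h k)]
  exact Equiv.prod_comp (Equiv.addRight (1 : ZMod p)) (fun k => (θ ^ k.val) v)

/-- two commuting automorphisms of order dividing `p` of a commutative group, such that all of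
`φ ψ^j` and `ψ` are fixed-point-free, force `v^p = 1` for all `v`. -/
theorem fpf_pair {V : Type*} [CommGroup V] (p : ℕ) [Fact p.Prime] (φ ψ : MulAut V)
    (hφ : φ ^ p = 1) (hψ : ψ ^ p = 1) (hc : Commute φ ψ)
    (h1 : ∀ j : ℕ, ∀ v, (φ * ψ ^ j) v = v → v = 1) (h2 : ∀ v, ψ v = v → v = 1) :
    ∀ v : V, v ^ p = 1 := by
  intro v
  have hN : ∀ j : ℕ, ∏ k : ZMod p, ((φ * ψ ^ j) ^ k.val) v = 1 := by
    intro j
    apply h1 j
    apply norm_fixed p
    rw [(hc.pow_right j).mul_pow, hφ, ← pow_mul, mul_comm j p, pow_mul, hψ, one_pow, one_mul]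
  have hNψ : ∏ k : ZMod p, (ψ ^ k.val) v = 1 := h2 _ (norm_fixed p ψ hψ v)
  have hsum : ∏ j : ZMod p, ∏ k : ZMod p, ((φ * ψ ^ j.val) ^ k.val) v = 1 := by
    apply Finset.prod_eq_one
    intro j _
    exact hN j.val
  rw [Finset.prod_comm] at hsum
  have hk : ∀ k : ZMod p, ∏ j : ZMod p, ((φ * ψ ^ j.val) ^ k.val) v
      = (φ ^ k.val) (∏ j : ZMod p, (ψ ^ (j.val * k.val)) v) := by
    intro k
    rw [map_prod]
    apply Finset.prod_congr rfl
    intro j _
    rw [(hc.pow_right j.val).mul_pow, ← pow_mul, MulAut.mul_apply]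
  rw [Finset.prod_congr rfl (fun k _ => hk k)] at hsum
  rw [Fintype.prod_eq_single (0 : ZMod p)] at hsum
  · simpa [ZMod.val_zero, ZMod.card] using hsum
  · intro k hk0
    have e : ∏ j : ZMod p, (ψ ^ (j.val * k.val)) v = ∏ j : ZMod p, (ψ ^ j.val) v := by
      have e1 : ∀ j : ZMod p, (ψ ^ (j.val * k.val)) v = (ψ ^ (j * k).val) v := by
        intro j
        rw [pow_eq_pow_mod (j.val * k.val) hψ, ZMod.val_mul]
      rw [Finset.prod_congr rfl (fun j _ => e1 j)]
      exact Equiv.prod_comp (Equiv.mulRight₀ k hk0) (fun j => (ψ ^ j.val) v)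
    rw [e, hNψ, map_one]

theorem nc_centralizer {H : Type*} [Group H] [Finite H] (ℓ : ℕ) [Fact ℓ.Prime]
    (hNC : ∀ a b : H, Commute a b → a ^ ℓ = 1 → b ^ ℓ = 1 → a ≠ 1 → b ∈ Subgroup.zpowers a)
    (M : ℕ) (hM : 1 ≤ M) (g : H) (hg : orderOf g = ℓ ^ M)
    (hmax : ∀ z : H, ∀ k : ℕ, orderOf z = ℓ ^ k → k ≤ M) :
    ¬ ℓ ^ (M + 1) ∣ Nat.card (Subgroup.centralizer ({g} : Set H)) := by
  have hℓ : ℓ.Prime := Fact.out
  have claim : ∀ j : ℕ, ∀ t : H, Commute t g → t ^ (ℓ ^ j) = 1 → t ∈ Subgroup.zpowers g := by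
    intro j
    induction j with
    | zero =>
      intro t _ ht
      rw [pow_zero, pow_one] at ht
      rw [ht]; exact one_mem _
    | succ j ih =>
      intro t htg ht
      have h1 : (t ^ ℓ) ^ (ℓ ^ j) = 1 := by rw [← pow_mul, ← pow_succ']; exact ht
      have h2 : t ^ ℓ ∈ Subgroup.zpowers g := ih (t ^ ℓ) (htg.pow_left ℓ) h1
      rw [← mem_powers_iff_mem_zpowers, Submonoid.mem_powers_iff] at h2
      obtain ⟨i, hi⟩ := h2
      by_cases hdvd : ℓ ∣ i
      · obtain ⟨i', rfl⟩ := hdvd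
        set b := t * (g ^ i')⁻¹ with hb
        have hbℓ : b ^ ℓ = 1 := by
          have hcomm : Commute t (g ^ i')⁻¹ := (htg.pow_right i').inv_right
          rw [hb, hcomm.mul_pow, ← hi, inv_pow, ← pow_mul, mul_comm i' ℓ, mul_inv_cancel]
        set a := g ^ (ℓ ^ (M - 1)) with ha
        have haℓ : a ^ ℓ = 1 := by
          rw [ha, ← pow_mul, ← pow_succ, Nat.sub_add_cancel hM, ← hg, pow_orderOf_eq_one]
        have ha1 : a ≠ 1 := by
          intro h
          rw [ha] at h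
          have := orderOf_dvd_of_pow_eq_one h
          rw [hg, Nat.pow_dvd_pow_iff_le_right hℓ.one_lt] at this
          omega
        have hab : Commute a b := by
          rw [ha, hb]
          exact (htg.symm.pow_left _).mul_right ((Commute.refl g).pow_pow _ _).inv_right
        have hbz := hNC a b hab haℓ hbℓ ha1
        have hle : Subgroup.zpowers a ≤ Subgroup.zpowers g := by
          rw [Subgroup.zpowers_le]; exact pow_mem (Subgroup.mem_zpowers g) _
        have : t = b * g ^ i' := by rw [hb]; group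
        rw [this]
        exact mul_mem (hle hbz) (pow_mem (Subgroup.mem_zpowers g) _)
      · exfalso
        have hcop : (orderOf g).Coprime i := by
          rw [hg]; exact Nat.Coprime.pow_left _ ((Nat.Prime.coprime_iff_not_dvd hℓ).mpr hdvd)
        have ho : orderOf (t ^ ℓ) = ℓ ^ M := by rw [← hi, hcop.orderOf_pow, hg]
        have hot : orderOf t ∣ ℓ ^ (j + 1) := orderOf_dvd_of_pow_eq_one ht
        obtain ⟨k, hk, hk2⟩ := (Nat.dvd_prime_pow hℓ).mp hot
        rcases Nat.eq_zero_or_pos k with rfl | hkpos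
        · rw [pow_zero, orderOf_eq_one_iff] at hk2
          rw [hk2, one_pow, orderOf_one] at ho
          have : 1 < ℓ ^ M := Nat.one_lt_pow (by omega) hℓ.one_lt
          omega
        · have h3 : orderOf (t ^ ℓ) = ℓ ^ (k - 1) := by
            rw [orderOf_pow' t hℓ.ne_zero, hk2]
            have : Nat.gcd (ℓ ^ k) ℓ = ℓ := Nat.gcd_eq_right (dvd_pow_self ℓ (by omega))
            rw [this]
            obtain ⟨k', rfl⟩ : ∃ k', k = k' + 1 := ⟨k - 1, by omega⟩
            rw [pow_succ, Nat.mul_div_cancel _ hℓ.pos]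
            rfl
          rw [h3] at ho
          have h4 := Nat.pow_right_injective hℓ.two_le ho
          have h5 := hmax t k hk2
          omega
  intro hdvd
  obtain ⟨K, hK⟩ := Sylow.exists_subgroup_card_pow_prime ℓ hdvd
  have hKz : ∀ k : K, ((k : Subgroup.centralizer ({g} : Set H)) : H) ∈ Subgroup.zpowers g := by
    intro k
    apply claim (M + 1)
    · have := k.1.2
      rw [Subgroup.mem_centralizer_iff] at this
      exact (this g rfl).symm
    · have h6 : k ^ Nat.card K = 1 := pow_card_eq_one'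
      rw [hK] at h6
      have h7 := congrArg (fun x : K => ((x : Subgroup.centralizer ({g} : Set H)) : H)) h6
      simpa using h7
  let f : K → Subgroup.zpowers g := fun k => ⟨_, hKz k⟩
  have hf : Function.Injective f := by
    intro x y hxy
    have := congrArg Subtype.val hxy
    exact Subtype.ext (Subtype.ext this)
  have hle := Nat.card_le_card_of_injective f hf
  rw [hK, Nat.card_zpowers, hg] at hle
  have h8 : ℓ ^ M < ℓ ^ (M + 1) := Nat.pow_lt_pow_right hℓ.one_lt (Nat.lt_succ_self M)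
  omega

/-- `|C| = |C ⊓ N| * |image of C in G/N|`. -/
theorem card_eq_inf_mul_map {G : Type*} [Group G] [Finite G] (N : Subgroup G) [N.Normal]
    (C : Subgroup G) :
    Nat.card C = Nat.card (C ⊓ N : Subgroup G) * Nat.card (C.map (QuotientGroup.mk' N)) := by
  have h1 := Subgroup.relIndex_mul_relIndex (H := (⊥ : Subgroup G)) (K := C ⊓ N) (L := C)
    bot_le inf_le_left
  rw [Subgroup.relIndex_bot_left, Subgroup.relIndex_bot_left, Subgroup.inf_relIndex_left] at h1
  rw [← h1, ← Subgroup.relIndex_ker, QuotientGroup.ker_mk']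

section camina

variable {G : Type*} [Group G] [Finite G] (N : Subgroup G) [N.Normal]

/-- Lemma A: in a Camina pair, an element of `N` commuting with `g ∉ N` has order dividing
every exponent of `g`. -/
theorem lemA (hcam : ∀ g : G, g ∉ N → ∀ n ∈ N, ∃ x : G, x * g * x⁻¹ = g * n)
    {g x : G} (hg : g ∉ N) (hx : x ∈ N) (hc : Commute g x) {m : ℕ} (hgm : g ^ m = 1) :
    x ^ m = 1 := by
  obtain ⟨u, hu⟩ := hcam g hg x hx
  have h1 : (g * x) ^ m = 1 := by
    rw [← hu, conj_pow, hgm]; simp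
  rw [hc.mul_pow, hgm, one_mul] at h1
  exact h1

/-- an element `u ∉ N` whose image in `G/N` has order `p` commutes with no nontrivial
`p'`-element of `N`. -/
theorem fpf_of_cam (hcam : ∀ g : G, g ∉ N → ∀ n ∈ N, ∃ x : G, x * g * x⁻¹ = g * n)
    (p : ℕ) [Fact p.Prime] {u x : G} (hu : u ∉ N) (hup : u ^ p ∈ N) (hx : x ∈ N)
    (hc : Commute u x) (hcop : (orderOf x).Coprime p) : x = 1 := by
  have hp : p.Prime := Fact.out
  obtain ⟨e, m, hm, hn⟩ := Nat.exists_eq_pow_mul_and_not_dvd (orderOf_pos u).ne' p hp.ne_one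
  have h1 : (u ^ m) ^ (p ^ e) = 1 := by
    rw [← pow_mul, mul_comm, ← hn, pow_orderOf_eq_one]
  have h2 : u ^ m ∉ N := by
    intro h
    apply hu
    have hq1 : ((u : G ⧸ N)) ^ m = 1 := by
      rw [← QuotientGroup.mk_pow]; exact (QuotientGroup.eq_one_iff _).mpr h
    have hq2 : ((u : G ⧸ N)) ^ p = 1 := by
      rw [← QuotientGroup.mk_pow]; exact (QuotientGroup.eq_one_iff _).mpr hup
    have hd : orderOf (u : G ⧸ N) ∣ Nat.gcd m p :=
      Nat.dvd_gcd (orderOf_dvd_of_pow_eq_one hq1) (orderOf_dvd_of_pow_eq_one hq2)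
    have hg : Nat.gcd m p = 1 := by
      rw [Nat.gcd_comm]; exact (Nat.Prime.coprime_iff_not_dvd hp).mpr hm
    rw [hg, Nat.dvd_one, orderOf_eq_one_iff] at hd
    exact (QuotientGroup.eq_one_iff _).mp hd
  have h3 : x ^ (p ^ e) = 1 := lemA N hcam h2 hx (hc.pow_left m) h1
  have h4 : orderOf x ∣ p ^ e := orderOf_dvd_of_pow_eq_one h3
  have h5 : orderOf x = 1 := Nat.Coprime.eq_one_of_dvd (Nat.Coprime.pow_right e hcop) h4
  exact orderOf_eq_one_iff.mp h5

/-- fixed points of a `p`-subgroup acting on `N` by conjugation. -/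
theorem lemFP (ℓ : ℕ) [Fact ℓ.Prime] (H : Subgroup G) (hH : IsPGroup ℓ H)
    (hN : ℓ ∣ Nat.card N) :
    ℓ ∣ Nat.card (N ⊓ Subgroup.centralizer (H : Set G) : Subgroup G) := by
  let _ : MulAction H N := MulAction.compHom N ((MulAut.conjNormal (H := N)).comp H.subtype)
  have hsmul : ∀ (h : H) (n : N), ((h • n : N) : G) = (h : G) * n * (h : G)⁻¹ := by
    intro h n; rfl
  have h1 := hH.card_modEq_card_fixedPoints N
  have h2 : Nat.card (MulAction.fixedPoints H N)
      = Nat.card (N ⊓ Subgroup.centralizer (H : Set G) : Subgroup G) := by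
    apply Nat.card_congr
    refine ⟨fun x => ⟨x.1.1, Subgroup.mem_inf.mpr ⟨x.1.2, ?_⟩⟩,
      fun y => ⟨⟨y.1, (Subgroup.mem_inf.mp y.2).1⟩, ?_⟩, ?_, ?_⟩
    · rw [Subgroup.mem_centralizer_iff]
      intro h hh
      have := x.2 ⟨h, hh⟩
      have h3 := congrArg Subtype.val this
      rw [hsmul] at h3
      calc h * (x.1 : G) = h * x.1 * h⁻¹ * h := by group
        _ = (x.1 : G) * h := by rw [h3]
    · intro h
      apply Subtype.ext
      rw [hsmul]
      have := (Subgroup.mem_inf.mp y.2).2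
      rw [Subgroup.mem_centralizer_iff] at this
      have h3 := this h h.2
      show (h : G) * y.1 * (h : G)⁻¹ = y.1
      rw [h3]; group
    · intro x; rfl
    · intro y; rfl
  rw [← h2]
  exact (Nat.modEq_zero_iff_dvd).mp (h1.symm.trans ((Nat.modEq_zero_iff_dvd).mpr hN))

/-- L3: a prime dividing both `|N|` and `|G/N|` forces a non-cyclic abelian `ℓ`-subgroup
in `G/N`. -/
theorem L3 (hcam : ∀ g : G, g ∉ N → ∀ n ∈ N, ∃ x : G, x * g * x⁻¹ = g * n)
    (ℓ : ℕ) [Fact ℓ.Prime] (hN : ℓ ∣ Nat.card N) (hQ : ℓ ∣ Nat.card (G ⧸ N))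
    (hNC : ∀ a b : G ⧸ N, Commute a b → a ^ ℓ = 1 → b ^ ℓ = 1 → a ≠ 1 →
      b ∈ Subgroup.zpowers a) : False := by
  classical
  have hℓ : ℓ.Prime := Fact.out
  -- an ℓ-element of maximal order
  let T := {z : G ⧸ N // ∃ k : ℕ, orderOf z = ℓ ^ k}
  have : Nonempty T := ⟨⟨1, 0, by simp⟩⟩
  obtain ⟨z₀, hz₀⟩ := Finite.exists_max (fun z : T => orderOf z.1)
  obtain ⟨M, hM⟩ := z₀.2
  have hmax : ∀ z : G ⧸ N, ∀ k : ℕ, orderOf z = ℓ ^ k → k ≤ M := by
    intro z k hk
    have := hz₀ ⟨z, k, hk⟩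
    simp only at this
    rw [hk, hM] at this
    exact (Nat.pow_le_pow_iff_right hℓ.one_lt).mp this
  have hM1 : 1 ≤ M := by
    obtain ⟨x, hx⟩ := exists_prime_orderOf_dvd_card' ℓ hQ
    exact hmax x 1 (by rw [hx, pow_one])
  -- lift to an ℓ-element
  obtain ⟨g₀, hg₀⟩ := QuotientGroup.mk_surjective z₀.1
  obtain ⟨e, m, hm, hn⟩ := Nat.exists_eq_pow_mul_and_not_dvd (orderOf_pos g₀).ne' ℓ hℓ.ne_one
  set g := g₀ ^ m with hg
  have hge : g ^ (ℓ ^ e) = 1 := by
    rw [hg, ← pow_mul, mul_comm, ← hn, pow_orderOf_eq_one]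
  have hgo : orderOf (g : G ⧸ N) = ℓ ^ M := by
    rw [hg, QuotientGroup.mk_pow, hg₀]
    have hcop : (orderOf z₀.1).Coprime m := by
      rw [hM]; exact Nat.Coprime.pow_left _ ((Nat.Prime.coprime_iff_not_dvd hℓ).mpr hm)
    rw [hcop.orderOf_pow, hM]
  have hgN : g ∉ N := by
    intro h
    have : (g : G ⧸ N) = 1 := (QuotientGroup.eq_one_iff _).mpr h
    rw [this, orderOf_one] at hgo
    have : 1 < ℓ ^ M := Nat.one_lt_pow (by omega) hℓ.one_lt
    omega
  have hnd := nc_centralizer ℓ hNC M hM1 (g : G ⧸ N) hgo hmax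
  have hkey := (Cfsg.Agent.S4142.key N g).mp (hcam g hgN)
  apply hnd
  rw [← hkey, card_eq_inf_mul_map N, pow_succ']
  apply mul_dvd_mul
  · have hP : IsPGroup ℓ (Subgroup.zpowers g) := by
      obtain ⟨k, _, hk2⟩ := (Nat.dvd_prime_pow hℓ).mp (orderOf_dvd_of_pow_eq_one hge)
      exact IsPGroup.of_card (n := k) (by rw [Nat.card_zpowers, hk2])
    have h1 := lemFP N ℓ (Subgroup.zpowers g) hP hN
    have h2 : (N ⊓ Subgroup.centralizer (Subgroup.zpowers g : Set G) : Subgroup G)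
        ≤ Subgroup.centralizer ({g} : Set G) ⊓ N := by
      intro x hx
      rw [Subgroup.mem_inf] at hx
      refine Subgroup.mem_inf.mpr ⟨?_, hx.1⟩
      have := hx.2
      rw [Subgroup.mem_centralizer_iff] at this ⊢
      intro y hy
      rw [Set.mem_singleton_iff] at hy
      rw [hy]
      exact this g (Subgroup.mem_zpowers g)
    exact h1.trans (Subgroup.card_dvd_of_le h2)
  · rw [← hgo]
    apply Subgroup.orderOf_dvd_natCard
    have hgC : g ∈ Subgroup.centralizer ({g} : Set G) := by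
      rw [Subgroup.mem_centralizer_iff]
      intro y hy
      rw [Set.mem_singleton_iff] at hy
      rw [hy]
    exact ⟨g, hgC, rfl⟩

end camina

section conj

variable {G : Type*} [Group G]

/-- conjugation action of the normalizer of `V` on `V`. -/
def conjHom (V : Subgroup G) : Subgroup.normalizer (V : Set G) →* MulAut V where
  toFun a :=
    { toFun := fun v => ⟨a * v * (a : G)⁻¹, (Subgroup.mem_normalizer_iff.mp a.2 v).mp v.2⟩
      invFun := fun v => ⟨(a : G)⁻¹ * v * a, by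
        have := (Subgroup.mem_normalizer_iff.mp (inv_mem a.2) v).mp v.2
        simpa using this⟩
      left_inv := fun v => by ext; simp [mul_assoc]
      right_inv := fun v => by ext; simp [mul_assoc]
      map_mul' := fun x y => by ext; simp [mul_assoc] }
  map_one' := by ext v; simp
  map_mul' a b := by ext v; simp [mul_assoc]

theorem conjHom_apply (V : Subgroup G) (a : Subgroup.normalizer (V : Set G)) (v : V) :
    ((conjHom V a v : V) : G) = a * v * (a : G)⁻¹ := rfl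

theorem conjHom_eq_one (V : Subgroup G) (a : Subgroup.normalizer (V : Set G))
    (h : ∀ v ∈ V, (a : G) * v = v * a) : conjHom V a = 1 := by
  ext v
  rw [conjHom_apply, h v v.2]; simp

/-- the normalizer of `S` normalizes the centre of `S`. -/
theorem normalizer_le_normalizer_center (S : Subgroup G) :
    Subgroup.normalizer (S : Set G)
      ≤ Subgroup.normalizer ((S ⊓ Subgroup.centralizer (S : Set G) : Subgroup G) : Set G) := by
  rw [Subgroup.le_normalizer_iff]
  · intro r hr h hh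
    rw [Subgroup.mem_inf] at hh ⊢
    refine ⟨(Subgroup.mem_normalizer_iff.mp hr h).mp hh.1, ?_⟩
    rw [Subgroup.mem_centralizer_iff]
    intro s hs
    have hs' : r⁻¹ * s * r ∈ S := by
      have := (Subgroup.mem_normalizer_iff.mp (inv_mem hr) s).mp hs
      simpa using this
    have h2 := (Subgroup.mem_centralizer_iff.mp hh.2) _ hs'
    calc s * (r * h * r⁻¹) = r * ((r⁻¹ * s * r) * h) * r⁻¹ := by group
      _ = r * (h * (r⁻¹ * s * r)) * r⁻¹ := by rw [h2]
      _ = r * h * r⁻¹ * s := by group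

end conj

section camina2

variable {G : Type*} [Group G] [Finite G] (N : Subgroup G) [N.Normal]

/-- Lemma F: a subgroup `R` acting on a nontrivial abelian `p'`-subgroup `V ≤ N` with `R ∩ N`
acting trivially has no `Z_p × Z_p` in its image in `G/N`. -/
theorem lemF (hcam : ∀ g : G, g ∉ N → ∀ n ∈ N, ∃ x : G, x * g * x⁻¹ = g * n)
    (p : ℕ) [Fact p.Prime] (V R : Subgroup G) (hVN : V ≤ N)
    (hVc : ∀ x ∈ V, ∀ y ∈ V, x * y = y * x) (hV1 : V ≠ ⊥)
    (hVp : ∀ v ∈ V, (orderOf v).Coprime p)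
    (hRV : R ≤ Subgroup.normalizer (V : Set G))
    (hRN : ∀ r ∈ R, r ∈ N → ∀ v ∈ V, r * v = v * r)
    (a b : G) (ha : a ∈ R) (hb : b ∈ R)
    (hab : Commute (a : G ⧸ N) (b : G ⧸ N)) (hap : (a : G ⧸ N) ^ p = 1)
    (hbp : (b : G ⧸ N) ^ p = 1) (ha1 : (a : G ⧸ N) ≠ 1) :
    (b : G ⧸ N) ∈ Subgroup.zpowers (a : G ⧸ N) := by
  have hp : p.Prime := Fact.out
  by_contra hnot
  have hb1 : (b : G ⧸ N) ≠ 1 := by
    intro h; rw [h] at hnot; exact hnot (one_mem _)
  have hoa : orderOf (a : G ⧸ N) = p := orderOf_eq_prime hap ha1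
  have hob : orderOf (b : G ⧸ N) = p := orderOf_eq_prime hbp hb1
  have hj : ∀ j : ℕ, (a : G ⧸ N) * (b : G ⧸ N) ^ j ≠ 1 := by
    intro j h
    have h1 : (a : G ⧸ N) ∈ Subgroup.zpowers (b : G ⧸ N) := by
      have : (a : G ⧸ N) = ((b : G ⧸ N) ^ j)⁻¹ := eq_inv_of_mul_eq_one_left h
      rw [this]
      exact inv_mem (pow_mem (Subgroup.mem_zpowers _) j)
    have h2 : Subgroup.zpowers (a : G ⧸ N) ≤ Subgroup.zpowers (b : G ⧸ N) := by
      rw [Subgroup.zpowers_le]; exact h1
    have h3 : Subgroup.zpowers (a : G ⧸ N) = Subgroup.zpowers (b : G ⧸ N) := by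
      apply Subgroup.eq_of_le_of_card_ge h2
      rw [Nat.card_zpowers, Nat.card_zpowers, hoa, hob]
    exact hnot (h3 ▸ Subgroup.mem_zpowers _)
  have hfpf : ∀ u ∈ R, (u : G ⧸ N) ≠ 1 → (u : G ⧸ N) ^ p = 1 →
      ∀ v ∈ V, u * v = v * u → v = 1 := by
    intro u _ hu1 hup v hv hc
    apply fpf_of_cam N hcam p (u := u) (x := v)
    · intro h; exact hu1 ((QuotientGroup.eq_one_iff _).mpr h)
    · rw [← QuotientGroup.eq_one_iff, QuotientGroup.mk_pow]; exact hup
    · exact hVN hv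
    · exact hc
    · exact hVp v hv
  let _ : CommGroup V := { (inferInstance : Group V) with
    mul_comm := fun x y => Subtype.ext (hVc x x.2 y y.2) }
  set a' : Subgroup.normalizer (V : Set G) := ⟨a, hRV ha⟩ with ha'
  set b' : Subgroup.normalizer (V : Set G) := ⟨b, hRV hb⟩ with hb'
  have hcent : ∀ c : Subgroup.normalizer (V : Set G), (c : G) ∈ R → ((c : G) : G ⧸ N) = 1 → conjHom V c = 1 := by
    intro c hcR hc1
    apply conjHom_eq_one
    exact hRN c hcR ((QuotientGroup.eq_one_iff _).mp hc1)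
  have hφ : (conjHom V a') ^ p = 1 := by
    rw [← map_pow]
    apply hcent
    · exact pow_mem ha p
    · simpa using hap
  have hψ : (conjHom V b') ^ p = 1 := by
    rw [← map_pow]
    apply hcent
    · exact pow_mem hb p
    · simpa using hbp
  have hc : Commute (conjHom V a') (conjHom V b') := by
    have e : a' * b' = b' * a' * ((b' * a')⁻¹ * (a' * b')) := by group
    have hcc : conjHom V ((b' * a')⁻¹ * (a' * b')) = 1 := by
      apply hcent
      · exact mul_mem (inv_mem (mul_mem hb ha)) (mul_mem ha hb)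
      · have : ((b : G ⧸ N) * (a : G ⧸ N))⁻¹ * ((a : G ⧸ N) * (b : G ⧸ N)) = 1 := by
          rw [hab.eq]; group
        simpa using this
    show conjHom V a' * conjHom V b' = conjHom V b' * conjHom V a'
    rw [← map_mul, ← map_mul]
    conv_lhs => rw [e]
    rw [map_mul, hcc, mul_one]
  have h1 : ∀ j : ℕ, ∀ v : V, (conjHom V a' * conjHom V b' ^ j) v = v → v = 1 := by
    intro j v hv
    rw [← map_pow, ← map_mul] at hv
    have hv' := congrArg Subtype.val hv
    rw [conjHom_apply] at hv'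
    have hu : ((a' * b' ^ j : Subgroup.normalizer (V : Set G)) : G) = a * b ^ j := rfl
    rw [hu] at hv'
    have h3 := hfpf (a * b ^ j) (mul_mem ha (pow_mem hb j)) (by simpa using hj j)
      (by
        rw [QuotientGroup.mk_mul, QuotientGroup.mk_pow, (hab.pow_right j).mul_pow, hap,
          ← pow_mul, mul_comm j p, pow_mul, hbp, one_pow, one_mul]) v v.2
      (by
        calc a * b ^ j * (v : G) = a * b ^ j * v * (a * b ^ j)⁻¹ * (a * b ^ j) := by group
          _ = v * (a * b ^ j) := by rw [hv'])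
    exact Subtype.ext h3
  have h2 : ∀ v : V, conjHom V b' v = v → v = 1 := by
    intro v hv
    have hv' := congrArg Subtype.val hv
    rw [conjHom_apply] at hv'
    have hu : ((b' : Subgroup.normalizer (V : Set G)) : G) = b := rfl
    rw [hu] at hv'
    have h3 := hfpf b hb hb1 hbp v v.2
      (by
        calc b * (v : G) = b * v * b⁻¹ * b := by group
          _ = v * b := by rw [hv'])
    exact Subtype.ext h3
  have hall := fpf_pair p (conjHom V a') (conjHom V b') hφ hψ hc h1 h2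
  apply hV1
  rw [Subgroup.eq_bot_iff_forall]
  intro v hv
  have h3 := hall ⟨v, hv⟩
  have h4 : v ^ p = 1 := by simpa using congrArg Subtype.val h3
  have h5 : orderOf v ∣ p := orderOf_dvd_of_pow_eq_one h4
  have h6 : orderOf v = 1 := Nat.Coprime.eq_one_of_dvd (hVp v hv) h5
  exact orderOf_eq_one_iff.mp h6

end camina2

/-- the "no `Z_p × Z_p`" condition passes from a Sylow `p`-subgroup to the whole group. -/
theorem nc_global {H : Type*} [Group H] [Finite H] (p : ℕ) [Fact p.Prime] (P : Sylow p H)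
    (hP : ∀ a ∈ P, ∀ b ∈ P, Commute a b → a ^ p = 1 → b ^ p = 1 → a ≠ 1 →
      b ∈ Subgroup.zpowers a) :
    ∀ a b : H, Commute a b → a ^ p = 1 → b ^ p = 1 → a ≠ 1 → b ∈ Subgroup.zpowers a := by
  intro a b hab hap hbp ha1
  have hpg : ∀ c : H, c ^ p = 1 → IsPGroup p (Subgroup.zpowers c) := by
    intro c hc g
    obtain ⟨i, hi⟩ := Subgroup.mem_zpowers_iff.mp g.2
    refine ⟨1, Subtype.ext ?_⟩
    show (g : H) ^ p ^ 1 = 1
    rw [pow_one, ← hi, ← zpow_natCast, ← zpow_mul, mul_comm, zpow_mul, zpow_natCast, hc,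
      one_zpow]
  have hnorm : Subgroup.zpowers a ≤ Subgroup.normalizer (Subgroup.zpowers b : Set H) := by
    refine le_trans ?_ (Subgroup.centralizer_le_normalizer _)
    rw [Subgroup.zpowers_le, Subgroup.mem_centralizer_iff]
    intro h hh
    obtain ⟨i, rfl⟩ := Subgroup.mem_zpowers_iff.mp hh
    exact (hab.zpow_right i).eq.symm
  have hK : IsPGroup p (Subgroup.zpowers a ⊔ Subgroup.zpowers b : Subgroup H) :=
    (hpg a hap).to_sup_of_normal_right' (hpg b hbp) hnorm
  obtain ⟨Q, hQ⟩ := hK.exists_le_sylow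
  obtain ⟨x, hx⟩ := MulAction.exists_smul_eq H Q P
  have hmem : ∀ c ∈ Q, x * c * x⁻¹ ∈ P := by
    intro c hc
    have h1 : MulAut.conj x • c ∈ MulAut.conj x • (Q : Subgroup H) :=
      Subgroup.smul_mem_pointwise_smul _ _ _ hc
    rw [← Sylow.coe_subgroup_smul, hx] at h1
    simp only [MulAut.smul_def, MulAut.conj_apply] at h1
    exact h1
  have haQ : a ∈ Q := hQ (Subgroup.mem_sup_left (Subgroup.mem_zpowers a))
  have hbQ : b ∈ Q := hQ (Subgroup.mem_sup_right (Subgroup.mem_zpowers b))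
  have h2 := hP _ (hmem a haQ) _ (hmem b hbQ)
    (by
      show x * a * x⁻¹ * (x * b * x⁻¹) = x * b * x⁻¹ * (x * a * x⁻¹)
      calc x * a * x⁻¹ * (x * b * x⁻¹) = x * (a * b) * x⁻¹ := by group
        _ = x * (b * a) * x⁻¹ := by rw [hab.eq]
        _ = x * b * x⁻¹ * (x * a * x⁻¹) := by group)
    (by rw [conj_pow, hap]; simp) (by rw [conj_pow, hbp]; simp)
    (by
      intro h
      apply ha1
      calc a = x⁻¹ * (x * a * x⁻¹) * x := by group
        _ = 1 := by rw [h]; simp)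
  obtain ⟨i, hi⟩ := Subgroup.mem_zpowers_iff.mp h2
  rw [conj_zpow] at hi
  rw [Subgroup.mem_zpowers_iff]
  refine ⟨i, ?_⟩
  calc a ^ i = x⁻¹ * (x * a ^ i * x⁻¹) * x := by group
    _ = x⁻¹ * (x * b * x⁻¹) * x := by rw [hi]
    _ = b := by group

section camina3

variable {G : Type*} [Group G] [Finite G] (N : Subgroup G) [N.Normal]

/-- a relative Frattini argument, stated for subgroups of `G`. -/
theorem frattini_flat (X : Subgroup G) (s : ℕ) [Fact s.Prime] :
    ∃ S : Subgroup G, S ≤ X ⊓ N ∧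
      Nat.card S = s ^ (Nat.card (X ⊓ N : Subgroup G)).factorization s ∧
      ∀ x ∈ X, ∃ k ∈ X ⊓ N, k * x ∈ Subgroup.normalizer (S : Set G) := by
  let N' : Subgroup X := N.subgroupOf X
  obtain ⟨S₁⟩ := (Sylow.nonempty : Nonempty (Sylow s N'))
  let SX : Subgroup X := (S₁ : Subgroup N').map N'.subtype
  refine ⟨SX.map X.subtype, ?_, ?_, ?_⟩
  · rintro _ ⟨y, ⟨z, _, rfl⟩, rfl⟩
    exact Subgroup.mem_inf.mpr ⟨(z : X).2, Subgroup.mem_subgroupOf.mp z.2⟩
  · rw [Subgroup.card_map_of_injective X.subtype_injective,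
      Subgroup.card_map_of_injective N'.subtype_injective, Sylow.card_eq_multiplicity]
    have e : Nat.card N' = Nat.card (X ⊓ N : Subgroup G) := by
      have h1 : (X ⊓ N).subgroupOf X = N' := Subgroup.inf_subgroupOf_left N X
      rw [← h1]
      exact Nat.card_congr (Subgroup.subgroupOfEquivOfLe (inf_le_left : X ⊓ N ≤ X)).toEquiv
    rw [e]
  · have hF := Sylow.normalizer_sup_eq_top S₁
    intro x hx
    have hx' : (⟨x, hx⟩ : X) ∈ (N' ⊔ Subgroup.normalizer (SX : Set X) : Subgroup X) := by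
      rw [sup_comm, hF]; trivial
    rw [← SetLike.mem_coe, Subgroup.normal_mul] at hx'
    obtain ⟨n, hn, y, hy, hny⟩ := Set.mem_mul.mp hx'
    refine ⟨((n⁻¹ : X) : G), Subgroup.mem_inf.mpr ⟨(n⁻¹ : X).2, ?_⟩, ?_⟩
    · have := Subgroup.mem_subgroupOf.mp (inv_mem hn)
      exact this
    · have hy' : ((y : X) : G) ∈ Subgroup.normalizer ((SX.map X.subtype : Subgroup G) : Set G) :=
        Subgroup.le_normalizer_map X.subtype ⟨y, hy, rfl⟩
      have e : ((n⁻¹ : X) : G) * x = (y : G) := by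
        have h2 : n⁻¹ * (⟨x, hx⟩ : X) = y := by rw [← hny]; group
        exact congrArg Subtype.val h2
      rw [e]; exact hy'

/-- a `p`-subgroup of `Y` covering a Sylow `p`-subgroup of `G/N` when `Y N = G`. -/
theorem sylow_cover (Y : Subgroup G) (p : ℕ) [Fact p.Prime]
    (hY : ∀ g : G, ∃ n ∈ N, n * g ∈ Y) :
    ∃ (P₁ : Subgroup G) (Pb : Sylow p (G ⧸ N)), P₁ ≤ Y ∧ IsPGroup p P₁ ∧
      (Pb : Subgroup (G ⧸ N)) = P₁.map (QuotientGroup.mk' N) := by
  let f : Y →* G ⧸ N := (QuotientGroup.mk' N).comp Y.subtype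
  have hf : Function.Surjective f := by
    intro z
    obtain ⟨g, rfl⟩ := QuotientGroup.mk_surjective z
    obtain ⟨n, hn, hng⟩ := hY g
    refine ⟨⟨n * g, hng⟩, ?_⟩
    show ((n * g : G) : G ⧸ N) = g
    rw [QuotientGroup.mk_mul, (QuotientGroup.eq_one_iff n).mpr hn, one_mul]
  obtain ⟨P₁'⟩ := (Sylow.nonempty : Nonempty (Sylow p Y))
  refine ⟨(P₁' : Subgroup Y).map Y.subtype, P₁'.mapSurjective hf, ?_, P₁'.isPGroup'.map _, ?_⟩
  · rintro _ ⟨y, _, rfl⟩; exact y.2
  · rw [Sylow.coe_mapSurjective, Subgroup.map_map]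

/-- L5: if `p` divides both `|N|` and `|G/N|`, a Sylow `p`-subgroup of `N` is self-normalizing
in `N`. -/
theorem L5 (hcam : ∀ g : G, g ∉ N → ∀ n ∈ N, ∃ x : G, x * g * x⁻¹ = g * n)
    (p : ℕ) [Fact p.Prime] (hN : p ∣ Nat.card N) (hQ : p ∣ Nat.card (G ⧸ N))
    (P₀ : Sylow p N) :
    Subgroup.normalizer (((P₀ : Subgroup N).map N.subtype : Subgroup G) : Set G) ⊓ N
      ≤ (P₀ : Subgroup N).map N.subtype := by
  have hp : p.Prime := Fact.out
  set P₀G : Subgroup G := (P₀ : Subgroup N).map N.subtype with hP₀G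
  set X : Subgroup G := Subgroup.normalizer (P₀G : Set G) with hX
  have hP₀p : IsPGroup p P₀G := P₀.isPGroup'.map _
  have hpel : ∀ d ∈ X ⊓ N, (∃ k : ℕ, d ^ p ^ k = 1) → d ∈ P₀G := by
    intro d hd ⟨k, hk⟩
    rw [Subgroup.mem_inf] at hd
    let d' : N := ⟨d, hd.2⟩
    have hZ : IsPGroup p (Subgroup.zpowers d') := by
      have h1 : orderOf d' ∣ p ^ k := orderOf_dvd_of_pow_eq_one (Subtype.ext (by simpa using hk))
      obtain ⟨j, _, hj⟩ := (Nat.dvd_prime_pow hp).mp h1
      exact IsPGroup.of_card (n := j) (by rw [Nat.card_zpowers, hj])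
    have h2 := hZ.inf_normalizer_sylow P₀
    have h3 : d' ∈ Subgroup.normalizer ((P₀ : Subgroup N) : Set N) := by
      rw [Subgroup.mem_normalizer_iff]
      intro h
      have h4 := (Subgroup.mem_normalizer_iff.mp hd.1) (h : G)
      have e1 : ∀ y : N, (y : G) ∈ P₀G ↔ y ∈ (P₀ : Subgroup N) := fun y =>
        Subgroup.mem_map_iff_mem N.subtype_injective (K := (P₀ : Subgroup N)) (x := y)
      rw [← e1, ← e1]
      exact h4
    have h5 : d' ∈ Subgroup.zpowers d' ⊓ (P₀ : Subgroup N) := by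
      rw [← h2]; exact Subgroup.mem_inf.mpr ⟨Subgroup.mem_zpowers d', h3⟩
    exact ⟨d', (Subgroup.mem_inf.mp h5).2, rfl⟩
  by_contra hcon
  obtain ⟨z, hz, hzP⟩ := SetLike.not_le_iff_exists.mp hcon
  obtain ⟨s, hs, hsp, hsd⟩ : ∃ s : ℕ, s.Prime ∧ s ≠ p ∧ s ∣ Nat.card (X ⊓ N : Subgroup G) := by
    by_contra hno
    push Not at hno
    have h1 : ∀ {d : ℕ}, d.Prime → d ∣ orderOf z → d = p := by
      intro d hd hdz
      by_contra hne
      exact hno d hd hne (hdz.trans (Subgroup.orderOf_dvd_natCard _ hz))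
    have h2 := Nat.eq_prime_pow_of_unique_prime_dvd (orderOf_pos z).ne' h1
    exact hzP (hpel z hz ⟨_, by rw [← h2, pow_orderOf_eq_one]⟩)
  haveI : Fact s.Prime := ⟨hs⟩
  obtain ⟨S, hSle, hScard, hSfr⟩ := frattini_flat N X s
  have hSs : IsPGroup s S := IsPGroup.of_card hScard
  have hSne : S ≠ ⊥ := by
    intro h
    rw [h, Subgroup.card_bot] at hScard
    have hpos : 0 < (Nat.card (X ⊓ N : Subgroup G)).factorization s :=
      hs.factorization_pos_of_dvd Nat.card_pos.ne' hsd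
    have : 1 < s ^ (Nat.card (X ⊓ N : Subgroup G)).factorization s :=
      Nat.one_lt_pow hpos.ne' hs.one_lt
    omega
  set Y : Subgroup G := X ⊓ Subgroup.normalizer (S : Set G) with hYdef
  have hXN : ∀ g : G, ∃ n ∈ N, n * g ∈ X := by
    intro g
    have hF := Sylow.normalizer_sup_eq_top P₀
    have hg : g ∈ (N ⊔ X : Subgroup G) := by rw [sup_comm, hX, hP₀G, hF]; trivial
    rw [← SetLike.mem_coe, Subgroup.normal_mul] at hg
    obtain ⟨n, hn, x, hx, hnx⟩ := Set.mem_mul.mp hg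
    refine ⟨n⁻¹, inv_mem hn, ?_⟩
    rw [← hnx]; simpa using hx
  have hY : ∀ g : G, ∃ n ∈ N, n * g ∈ Y := by
    intro g
    obtain ⟨n, hn, hng⟩ := hXN g
    obtain ⟨k, hk, hkx⟩ := hSfr (n * g) hng
    rw [Subgroup.mem_inf] at hk
    refine ⟨k * n, mul_mem hk.2 hn, ?_⟩
    rw [mul_assoc]
    exact Subgroup.mem_inf.mpr ⟨mul_mem hk.1 hng, hkx⟩
  obtain ⟨P₁, Pb, hP₁Y, hP₁p, hPb⟩ := sylow_cover N Y p hY
  set V : Subgroup G := S ⊓ Subgroup.centralizer (S : Set G) with hV
  have hSN : S ≤ N := hSle.trans inf_le_right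
  have hSX : S ≤ X := hSle.trans inf_le_left
  have hVS : V ≤ S := inf_le_left
  have hVc : ∀ x ∈ V, ∀ y ∈ V, x * y = y * x := by
    intro x hx y hy
    rw [hV, Subgroup.mem_inf] at hx hy
    exact (Subgroup.mem_centralizer_iff.mp hy.2 x hx.1)
  have hV1 : V ≠ ⊥ := by
    haveI : Nontrivial S := (Subgroup.nontrivial_iff_ne_bot S).mpr hSne
    haveI := hSs.center_nontrivial
    obtain ⟨c, hc⟩ := exists_ne (1 : Subgroup.center S)
    intro h
    have hcV : ((c : S) : G) ∈ V := by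
      rw [hV, Subgroup.mem_inf]
      refine ⟨(c : S).2, ?_⟩
      rw [Subgroup.mem_centralizer_iff]
      intro t ht
      have := Subgroup.mem_center_iff.mp c.2 ⟨t, ht⟩
      exact congrArg Subtype.val this
    rw [h, Subgroup.mem_bot] at hcV
    apply hc
    exact Subtype.ext (Subtype.ext hcV)
  have hVp : ∀ v ∈ V, (orderOf v).Coprime p := by
    intro v hv
    have h1 : orderOf v ∣ Nat.card S := Subgroup.orderOf_dvd_natCard _ (hVS hv)
    rw [hScard] at h1
    exact Nat.Coprime.coprime_dvd_left h1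
      (Nat.Coprime.pow_left _ ((Nat.coprime_primes hs hp).mpr hsp))
  have hRV : P₁ ≤ Subgroup.normalizer (V : Set G) :=
    (hP₁Y.trans inf_le_right).trans (normalizer_le_normalizer_center S)
  have hdisj : Disjoint P₀G S := IsPGroup.disjoint_of_ne p s (Ne.symm hsp) _ _ hP₀p hSs
  have hRN : ∀ r ∈ P₁, r ∈ N → ∀ v ∈ V, r * v = v * r := by
    intro r hr hrN v hv
    have hrY := hP₁Y hr
    rw [hYdef, Subgroup.mem_inf] at hrY
    have hrP : r ∈ P₀G := by
      apply hpel r (Subgroup.mem_inf.mpr ⟨hrY.1, hrN⟩)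
      obtain ⟨k, hk⟩ := hP₁p ⟨r, hr⟩
      exact ⟨k, by simpa using congrArg Subtype.val hk⟩
    have hvS : v ∈ S := hVS hv
    have h1 : r * v * r⁻¹ * v⁻¹ ∈ S :=
      mul_mem ((Subgroup.mem_normalizer_iff.mp hrY.2 v).mp hvS) (inv_mem hvS)
    have h2 : r * v * r⁻¹ * v⁻¹ ∈ P₀G := by
      have hvX : v ∈ X := hSX hvS
      have h3 : v * r⁻¹ * v⁻¹ ∈ P₀G :=
        (Subgroup.mem_normalizer_iff.mp hvX r⁻¹).mp (inv_mem hrP)
      have e : r * v * r⁻¹ * v⁻¹ = r * (v * r⁻¹ * v⁻¹) := by group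
      rw [e]; exact mul_mem hrP h3
    have h4 : r * v * r⁻¹ * v⁻¹ = 1 := Subgroup.disjoint_def.mp hdisj h2 h1
    calc r * v = r * v * r⁻¹ * v⁻¹ * (v * r) := by group
      _ = v * r := by rw [h4, one_mul]
  have hNCP : ∀ a ∈ Pb, ∀ b ∈ Pb, Commute a b → a ^ p = 1 → b ^ p = 1 → a ≠ 1 →
      b ∈ Subgroup.zpowers a := by
    intro a ha b hb hab hap hbp ha1
    have ha' : a ∈ (Pb : Subgroup (G ⧸ N)) := ha
    have hb' : b ∈ (Pb : Subgroup (G ⧸ N)) := hb
    rw [hPb] at ha' hb'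
    obtain ⟨a₀, ha₀, rfl⟩ := ha'
    obtain ⟨b₀, hb₀, rfl⟩ := hb'
    exact lemF N hcam p V P₁ (hVS.trans hSN) hVc hV1 hVp hRV hRN a₀ b₀ ha₀ hb₀ hab hap hbp ha1
  exact L3 N hcam p hN hQ (nc_global p Pb hNCP)

/-- L6: a `q`-subgroup meeting `N` trivially cannot cover a Sylow `q`-subgroup of `G/N`
when `q` divides `|N|`. -/
theorem L6 (hcam : ∀ g : G, g ∉ N → ∀ n ∈ N, ∃ x : G, x * g * x⁻¹ = g * n)
    (q : ℕ) [Fact q.Prime] (hN : q ∣ Nat.card N) (hQ : q ∣ Nat.card (G ⧸ N))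
    (Q₁ : Subgroup G) (hQ₁ : IsPGroup q Q₁) (hQN : Q₁ ⊓ N = ⊥) (Qb : Sylow q (G ⧸ N))
    (hQb : (Qb : Subgroup (G ⧸ N)) = Q₁.map (QuotientGroup.mk' N)) : False := by
  have hq : q.Prime := Fact.out
  have hcardQb : Nat.card (Qb : Subgroup (G ⧸ N)) = q ^ (Nat.card (G ⧸ N)).factorization q :=
    Qb.card_eq_multiplicity
  have hfpos : 0 < (Nat.card (G ⧸ N)).factorization q :=
    hq.factorization_pos_of_dvd Nat.card_pos.ne' hQ
  have hQ₁ne : Q₁ ≠ ⊥ := by
    intro h
    rw [h, Subgroup.map_bot] at hQb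
    rw [hQb, Subgroup.card_bot] at hcardQb
    have : 1 < q ^ (Nat.card (G ⧸ N)).factorization q := Nat.one_lt_pow hfpos.ne' hq.one_lt
    omega
  haveI : Nontrivial Q₁ := (Subgroup.nontrivial_iff_ne_bot Q₁).mpr hQ₁ne
  haveI := hQ₁.center_nontrivial
  obtain ⟨c, hc⟩ := exists_ne (1 : Subgroup.center Q₁)
  set y : G := ((c : Q₁) : G) with hy
  have hyQ : y ∈ Q₁ := (c : Q₁).2
  have hy1 : y ≠ 1 := by
    intro h; apply hc; exact Subtype.ext (Subtype.ext h)
  have hyN : y ∉ N := by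
    intro h
    have : y ∈ Q₁ ⊓ N := Subgroup.mem_inf.mpr ⟨hyQ, h⟩
    rw [hQN, Subgroup.mem_bot] at this
    exact hy1 this
  have hycent : ∀ t ∈ Q₁, t * y = y * t := by
    intro t ht
    have := Subgroup.mem_center_iff.mp c.2 ⟨t, ht⟩
    exact congrArg Subtype.val this
  set C := Subgroup.centralizer ({y} : Set G) with hC
  have hQC : Q₁ ≤ C := by
    intro t ht
    rw [hC, Subgroup.mem_centralizer_iff]
    intro z hz
    rw [Set.mem_singleton_iff] at hz
    rw [hz]; exact (hycent t ht).symm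
  have hkey := (Cfsg.Agent.S4142.key N y).mp (hcam y hyN)
  have hdvd : Nat.card C ∣ Nat.card (G ⧸ N) := by
    rw [hkey]; exact Subgroup.card_subgroup_dvd_card _
  have h1 : q ∣ Nat.card (C ⊓ N : Subgroup G) := by
    have h2 := lemFP N q Q₁ hQ₁ hN
    have h3 : (N ⊓ Subgroup.centralizer (Q₁ : Set G) : Subgroup G) ≤ C ⊓ N := by
      intro x hx
      rw [Subgroup.mem_inf] at hx
      refine Subgroup.mem_inf.mpr ⟨?_, hx.1⟩
      rw [hC, Subgroup.mem_centralizer_iff]
      intro z hz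
      rw [Set.mem_singleton_iff] at hz
      rw [hz]
      exact Subgroup.mem_centralizer_iff.mp hx.2 y hyQ
    exact h2.trans (Subgroup.card_dvd_of_le h3)
  have h4 : q ^ (Nat.card (G ⧸ N)).factorization q ∣
      Nat.card (C.map (QuotientGroup.mk' N)) := by
    rw [← hcardQb]
    have : (Qb : Subgroup (G ⧸ N)) ≤ C.map (QuotientGroup.mk' N) := by
      rw [hQb]; exact Subgroup.map_mono hQC
    exact Subgroup.card_dvd_of_le this
  have h5 : q ^ ((Nat.card (G ⧸ N)).factorization q + 1) ∣ Nat.card (G ⧸ N) := by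
    refine dvd_trans ?_ hdvd
    rw [card_eq_inf_mul_map N C, pow_succ']
    exact mul_dvd_mul h1 h4
  exact Nat.pow_succ_factorization_not_dvd Nat.card_pos.ne' hq h5

end camina3

/-- Camina's trichotomy. -/
theorem main {G : Type*} [Group G] [Finite G] (N : Subgroup G) [N.Normal] (_hN1 : N ≠ ⊥)
    (_hN2 : N ≠ ⊤)
    (hcam : ∀ g : G, g ∉ N → ∀ n ∈ N, ∃ x : G, x * g * x⁻¹ = g * n) :
    (∀ x ∈ N, x ≠ 1 → Subgroup.centralizer ({x} : Set G) ≤ N) ∨ IsPrimePow (Nat.card N) ∨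
      IsPrimePow N.index := by
  classical
  by_contra hcon
  rw [not_or, not_or] at hcon
  obtain ⟨hF, hNpp, hQpp⟩ := hcon
  push Not at hF
  obtain ⟨x₀, hx₀N, hx₀1, hx₀c⟩ := hF
  obtain ⟨g₀, hg₀c, hg₀N⟩ := SetLike.not_le_iff_exists.mp hx₀c
  have hcomm : Commute g₀ x₀ := by
    rw [Subgroup.mem_centralizer_iff] at hg₀c
    exact (hg₀c x₀ rfl).symm
  have hg₀q : (g₀ : G ⧸ N) ≠ 1 := fun h => hg₀N ((QuotientGroup.eq_one_iff _).mp h)
  have ho : orderOf (g₀ : G ⧸ N) ≠ 1 := fun h => hg₀q (orderOf_eq_one_iff.mp h)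
  obtain ⟨p, hp, hpd⟩ := Nat.exists_prime_and_dvd ho
  haveI : Fact p.Prime := ⟨hp⟩
  have hpQ : p ∣ Nat.card (G ⧸ N) := hpd.trans (orderOf_dvd_natCard _)
  have hpN : p ∣ Nat.card N := by
    obtain ⟨e, m, hm, hn⟩ := Nat.exists_eq_pow_mul_and_not_dvd (orderOf_pos g₀).ne' p hp.ne_one
    have h1 : (g₀ ^ m) ^ (p ^ e) = 1 := by rw [← pow_mul, mul_comm, ← hn, pow_orderOf_eq_one]
    have h2 : g₀ ^ m ∉ N := by
      intro h
      have h3 : (g₀ : G ⧸ N) ^ m = 1 := by
        rw [← QuotientGroup.mk_pow]; exact (QuotientGroup.eq_one_iff _).mpr h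
      exact hm (hpd.trans (orderOf_dvd_of_pow_eq_one h3))
    have h4 : x₀ ^ (p ^ e) = 1 := lemA N hcam h2 hx₀N (hcomm.pow_left m) h1
    obtain ⟨k, _, hk⟩ := (Nat.dvd_prime_pow hp).mp (orderOf_dvd_of_pow_eq_one h4)
    have hk0 : k ≠ 0 := by
      rintro rfl
      rw [pow_zero, orderOf_eq_one_iff] at hk
      exact hx₀1 hk
    have h5 : p ∣ orderOf x₀ := by rw [hk]; exact dvd_pow_self p hk0
    exact h5.trans (Subgroup.orderOf_dvd_natCard N hx₀N)
  have hidx : N.index = Nat.card (G ⧸ N) := Subgroup.index_eq_card N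
  obtain ⟨q, hq, hqp, hqd⟩ : ∃ q : ℕ, q.Prime ∧ q ≠ p ∧ q ∣ Nat.card (G ⧸ N) := by
    by_contra hno
    push Not at hno
    have h1 : ∀ {d : ℕ}, d.Prime → d ∣ Nat.card (G ⧸ N) → d = p := by
      intro d hd hdd
      by_contra hne
      exact hno d hd hne hdd
    have h2 := Nat.eq_prime_pow_of_unique_prime_dvd Nat.card_pos.ne' h1
    apply hQpp
    rw [hidx, h2]
    refine ⟨p, _, hp.prime, ?_, rfl⟩
    by_contra h0
    have h3 : (Nat.card (G ⧸ N)).primeFactorsList.length = 0 := by omega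
    rw [h3, pow_zero] at h2
    rw [h2] at hpQ
    exact hp.one_lt.ne' (Nat.dvd_one.mp hpQ)
  haveI : Fact q.Prime := ⟨hq⟩
  obtain ⟨P₀⟩ := (Sylow.nonempty : Nonempty (Sylow p N))
  have hL5 := L5 N hcam p hpN hpQ P₀
  set P₀G : Subgroup G := (P₀ : Subgroup N).map N.subtype with hP₀G
  have hP₀p : IsPGroup p P₀G := P₀.isPGroup'.map _
  by_cases hqN : q ∣ Nat.card N
  · have hXN : ∀ g : G, ∃ n ∈ N, n * g ∈ Subgroup.normalizer (P₀G : Set G) := by
      intro g
      have hF := Sylow.normalizer_sup_eq_top P₀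
      have hg : g ∈ (N ⊔ Subgroup.normalizer (P₀G : Set G) : Subgroup G) := by
        rw [sup_comm, hP₀G, hF]; trivial
      rw [← SetLike.mem_coe, Subgroup.normal_mul] at hg
      obtain ⟨n, hn, x, hx, hnx⟩ := Set.mem_mul.mp hg
      refine ⟨n⁻¹, inv_mem hn, ?_⟩
      rw [← hnx]; simpa using hx
    obtain ⟨Q₁, Qb, hQ₁X, hQ₁q, hQb⟩ :=
      sylow_cover N (Subgroup.normalizer (P₀G : Set G)) q hXN
    have hQN : Q₁ ⊓ N = ⊥ := by
      have hdisj : Disjoint Q₁ P₀G := IsPGroup.disjoint_of_ne q p hqp _ _ hQ₁q hP₀p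
      rw [eq_bot_iff]
      intro t ht
      rw [Subgroup.mem_inf] at ht
      have h1 : t ∈ P₀G := hL5 (Subgroup.mem_inf.mpr ⟨hQ₁X ht.1, ht.2⟩)
      exact Subgroup.mem_bot.mpr (Subgroup.disjoint_def.mp hdisj ht.1 h1)
    exact L6 N hcam q hqN hqd Q₁ hQ₁q hQN Qb hQb
  · obtain ⟨yb, hyb⟩ := exists_prime_orderOf_dvd_card' q hqd
    obtain ⟨y₀, rfl⟩ := QuotientGroup.mk_surjective yb
    obtain ⟨e, m, hm, hn⟩ := Nat.exists_eq_pow_mul_and_not_dvd (orderOf_pos y₀).ne' q hq.ne_one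
    set y := y₀ ^ m with hy
    have hye : y ^ (q ^ e) = 1 := by rw [hy, ← pow_mul, mul_comm, ← hn, pow_orderOf_eq_one]
    have hyN : y ∉ N := by
      intro h
      have h3 : (y₀ : G ⧸ N) ^ m = 1 := by
        rw [← QuotientGroup.mk_pow]; exact (QuotientGroup.eq_one_iff _).mpr h
      have h4 := orderOf_dvd_of_pow_eq_one h3
      rw [hyb] at h4
      exact hm h4
    have hcopN : Nat.Coprime q (Nat.card N) := (Nat.Prime.coprime_iff_not_dvd hq).mpr hqN
    have hyq : y ^ q = 1 := by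
      have h1 : y ^ q ∈ N := by
        rw [← QuotientGroup.eq_one_iff, QuotientGroup.mk_pow, hy, QuotientGroup.mk_pow,
          ← pow_mul, mul_comm, pow_mul, ← hyb, pow_orderOf_eq_one, one_pow]
      have h2 : orderOf (y ^ q) ∣ Nat.card N := Subgroup.orderOf_dvd_natCard N h1
      have h3 : orderOf (y ^ q) ∣ q ^ e :=
        orderOf_dvd_of_pow_eq_one (by rw [← pow_mul, mul_comm, pow_mul, hye, one_pow])
      have h4 : orderOf (y ^ q) = 1 := Nat.eq_one_of_dvd_coprimes (hcopN.pow_left e) h3 h2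
      exact orderOf_eq_one_iff.mp h4
    let φ : N ≃* N := MulAut.conjNormal y
    have hfix : ∀ n : N, φ n = n → n = 1 := by
      intro n hn
      have h1 : y * (n : G) * y⁻¹ = n := by
        have h0 := congrArg Subtype.val hn
        rwa [MulAut.conjNormal_apply] at h0
      have hc : Commute y (n : G) := by
        show y * n = n * y
        calc y * (n : G) = y * n * y⁻¹ * y := by group
          _ = n * y := by rw [h1]
      have h2 : (n : G) ^ q = 1 := lemA N hcam hyN n.2 hc hyq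
      have h3 : orderOf (n : G) ∣ q := orderOf_dvd_of_pow_eq_one h2
      have h4 : orderOf (n : G) ∣ Nat.card N := Subgroup.orderOf_dvd_natCard N n.2
      have h5 : orderOf (n : G) = 1 := Nat.eq_one_of_dvd_coprimes hcopN h3 h4
      exact Subtype.ext (orderOf_eq_one_iff.mp h5)
    have hpow : (⇑φ)^[q] = id := by
      funext n
      have h1 : ∀ k : ℕ, (⇑φ)^[k] n = (MulAut.conjNormal (y ^ k) : MulAut N) n := by
        intro k
        induction k with
        | zero => simp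
        | succ k ih =>
          rw [Function.iterate_succ_apply', ih, pow_succ', map_mul]
          rfl
      rw [h1, hyq, map_one]; rfl
    have hnil : Group.IsNilpotent N :=
      Cfsg.Agent.S0033.fpf_nilpotent q hq _ N rfl φ hfix hpow
    have hnorm : (P₀ : Subgroup N).Normal := inferInstance
    have hNX : N ≤ Subgroup.normalizer (P₀G : Set G) := by
      have h1 := Subgroup.le_normalizer_map (H := (P₀ : Subgroup N)) N.subtype
      rw [Subgroup.normalizer_eq_top, ← MonoidHom.range_eq_map, Subgroup.range_subtype] at h1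
      exact h1
    have hNP : N ≤ P₀G := fun n hn => hL5 (Subgroup.mem_inf.mpr ⟨hNX hn, hn⟩)
    apply hNpp
    have hcard : Nat.card N = Nat.card P₀G :=
      le_antisymm (Nat.le_of_dvd Nat.card_pos (Subgroup.card_dvd_of_le hNP))
        (Nat.le_of_dvd Nat.card_pos (Subgroup.card_dvd_of_le (Subgroup.map_subtype_le _)))
    rw [hcard, hP₀G, Subgroup.card_map_of_injective N.subtype_injective,
      Sylow.card_eq_multiplicity]
    exact ⟨p, _, hp.prime, hp.factorization_pos_of_dvd Nat.card_pos.ne' hpN, rfl⟩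

end Cfsg.Agent.Lib.Helper64.Camina
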