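import Mathlib
import Cfsg.Prelude.Def_GeometricClasses
import Cfsg.Prelude.Def_ClassicalGeometry
import Cfsg.Agent.Lib.Helper98.F75Defs

/-!
S5975 piece F75-AUT1 (helper98's project; written by helper64): a semilinear element of prime
order `r ≠ k = [L : F]` is linear.  NOTE: the skeleton statement is false for empty `ι` (the matrix
ring is then the zero ring and `ρ` is not injective), so the instance argument `[Nonempty ι]` was
added; everything else is verbatim.
-/

set_option autoImplicit false

universe u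

namespace Cfsg.Agent.Lib.Helper98.F75

open Matrix Polynomial

theorem aut_eq_one_of_pow {F : Type*} [Field F] [Fintype F] {ι : Type} [Fintype ι]
    [DecidableEq ι] [Nonempty ι] {L : Type*} [Field L] [Fintype L] [Algebra F L]
    (ρ : L →ₐ[F] Matrix ι ι F) {k : ℕ} (hk : k.Prime) (hL : Module.finrank F L = k)
    (τ : L ≃ₐ[F] L) (y : Matrix ι ι F) (hτ : ∀ c : L, y * ρ c = ρ (τ c) * y)
    (r : ℕ) (hr : r.Prime) (hrk : r ≠ k) (hyr : y ^ r = 1) : ∀ c : L, τ c = c := by
  have hinj : Function.Injective ρ := (ρ : L →+* Matrix ι ι F).injective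
  have hpow : ∀ n : ℕ, ∀ c : L, y ^ n * ρ c = ρ ((τ ^ n) c) * y ^ n := by
    intro n
    induction n with
    | zero => intro c; simp
    | succ n ih =>
      intro c
      have h1 : (τ ^ (n + 1)) c = (τ ^ n) (τ c) := by
        rw [pow_succ, AlgEquiv.mul_apply]
      rw [h1, pow_succ, mul_assoc, hτ c, ← mul_assoc, ih (τ c), mul_assoc]
  have hτr : τ ^ r = 1 := by
    apply AlgEquiv.ext
    intro c
    have h1 := hpow r c
    rw [hyr, one_mul, mul_one] at h1
    exact (hinj h1).symm
  have hord1 : orderOf τ ∣ r := orderOf_dvd_of_pow_eq_one hτr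
  have hcard : Nat.card (L ≃ₐ[F] L) = k := by
    rw [← hL]
    exact IsGalois.card_aut_eq_finrank F L
  have hord2 : orderOf τ ∣ k := hcard ▸ orderOf_dvd_natCard τ
  have hcop : Nat.Coprime r k := (Nat.coprime_primes hr hk).2 hrk
  have hone : orderOf τ = 1 := Nat.eq_one_of_dvd_coprimes hcop hord1 hord2
  have hτ1 : τ = 1 := orderOf_eq_one_iff.1 hone
  intro c
  rw [hτ1]
  rfl

end Cfsg.Agent.Lib.Helper98.F75
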