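import Mathlib
import Cfsg.Agent.Lib.Helper4.FCDefs

/-!
# Project FC (S4146), piece LFZ
-/

namespace Cfsg.Agent.Lib.Helper4.FC

universe u

theorem fc_lfz : LF1Stmt.{u} → LFDecStmt.{u} → L3Stmt.{u} → LFZStmt.{u} := by
  intro hLF1 hDec hL3 G _ _ n m A H hctx
  have hctx' := hctx
  obtain ⟨hFour, hAn, hAab, hcop, hAH, hAHt, hAcs, hZ⟩ := hctx'
  obtain ⟨hn, hm, hnm, hall, ⟨g, hg⟩, hexm, hexnm⟩ := hFour
  obtain ⟨y, x, hyA, hxH, hyx, hord, hcs⟩ := hDec G A H g hAn hAab hcop hAH hAHt
  have hL3' : Cen (y * x) = Cen y ⊓ Cen x := hL3 G y x hyx hord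
  rw [hg] at hcs
  -- `cs y = 1`
  have hy1 : cs y = 1 := by
    rcases hAcs y hyA with h1 | h1
    · exact h1
    · exfalso
      have hle : Cen (y * x) ≤ Cen y := by
        rw [hL3']
        exact inf_le_left
      have hd : (Cen y).index ∣ (Cen (y * x)).index := Subgroup.index_dvd_of_le hle
      have hd' : m ∣ n := by
        have e1 : (Cen y).index = m := h1
        have e2 : (Cen (y * x)).index = n := hcs
        rw [e1, e2] at hd
        exact hd
      have h1' : m = 1 := Nat.Coprime.eq_one_of_dvd hnm.symm hd'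
      omega
  have hyT : Cen y = ⊤ := Subgroup.index_eq_one.mp hy1
  have hcx : cs x = n := by
    have hh : Cen (y * x) = Cen x := by rw [hL3', hyT, top_inf_eq]
    rw [← hcs]
    show (Cen x).index = (Cen (y * x)).index
    rw [hh]
  obtain ⟨hA1, hH1, hprod⟩ := hLF1 G n m A H x hctx hxH
  rw [hcx] at hprod
  have hβ : (Cen x).relIndex H = 1 := by
    rcases hH1 with h1 | h1
    · exact h1
    · exfalso
      rw [h1] at hprod
      rcases hA1 with h2 | h2
      · rw [h2, one_mul] at hprod
        rw [hprod] at hnm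
        have h3 : m = 1 := (Nat.coprime_self m).mp hnm
        omega
      · rw [h2] at hprod
        have h3 : n * 1 = n * m := by rw [mul_one]; exact hprod
        have h4 := Nat.eq_of_mul_eq_mul_left (by omega : 0 < n) h3
        omega
  have hα : (Cen x).relIndex A = n := by
    rw [hβ, mul_one] at hprod
    exact hprod.symm
  refine ⟨x, hxH, ?_, ?_⟩
  · intro h hh
    have hle : H ≤ Cen x := Subgroup.relIndex_eq_one.mp hβ
    have hmem := hle hh
    rw [Subgroup.mem_centralizer_singleton_iff] at hmem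
    exact hmem.symm
  · intro hxK
    have hAle : A ≤ Cen x := by
      intro a ha
      rw [Subgroup.mem_centralizer_singleton_iff]
      have hc := (Subgroup.mem_inf.mp
        (show x ∈ H ⊓ Subgroup.centralizer (A : Set G) from hxK)).2
      rw [Subgroup.mem_centralizer_iff] at hc
      exact hc a ha
    have hrel : (Cen x).relIndex A = 1 := Subgroup.relIndex_eq_one.mpr hAle
    omega

end Cfsg.Agent.Lib.Helper4.FC
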