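import Mathlib
import Cfsg.Agent.Lib.Helper4.FCDefs
import Cfsg.Agent.S4035

/-!
# Project FC (S4146), piece W4
-/

namespace Cfsg.Agent.Lib.Helper4.FC

universe u

theorem fc_w4 : W4Stmt.{u} := by
  intro C _ _ K T _hKn hcov
  have htop : (Subgroup.centralizer (T : Set C)).subgroupOf K = ⊤ := by
    apply Cfsg.Agent.S4035.eq_top_of_forall_conj_mem
    intro y
    obtain ⟨k, hkK, hk⟩ := hcov (y : C) y.2
    refine ⟨⟨k, hkK⟩, ?_⟩
    rw [Subgroup.mem_subgroupOf, Subgroup.mem_centralizer_iff]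
    intro x hx
    exact hk x hx
  intro x hxT u huK
  have hmem : (⟨u, huK⟩ : K) ∈ (Subgroup.centralizer (T : Set C)).subgroupOf K := by
    rw [htop]
    trivial
  rw [Subgroup.mem_subgroupOf, Subgroup.mem_centralizer_iff] at hmem
  exact hmem x hxT

end Cfsg.Agent.Lib.Helper4.FC
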