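import Mathlib
import Cfsg.Agent.Lib.Helper22.HPDefs
import Cfsg.Agent.Lib.Helper83.IrrBasic
import Cfsg.Agent.Lib.Helper83.Twist
import Cfsg.Agent.Lib.Helper83.Central
import Cfsg.Agent.Lib.Helper67.BFZCENT
import Cfsg.Agent.Lib.Helper64.HPMOMA
import Cfsg.Agent.Lib.Helper64.HPMOMB

/-!
# S4504 (HP project of helper22), piece MOMENT, part C (helper64): the core of `hp_moment`,
from the eta facts and the formula for sums over the `p`-singular elements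
-/

set_option autoImplicit false
set_option linter.unusedSectionVars false
set_option maxHeartbeats 1000000

namespace Cfsg.Agent.Lib.Helper64.HPT

open Cfsg Cfsg.Agent.Lib.Helper22.BFD Cfsg.Agent.Lib.Helper22.HPD
open scoped ComplexConjugate

universe u

section

variable {G : Type u} [Group G] [Fintype G]

open Classical in
theorem hp_moment_core (p : ℕ) [Fact p.Prime]
    (hnn : ∀ H : Subgroup G, H.Normal → Nat.card H ≠ p)
    (χ : IrrCharacter G) (hfaith : ∀ g : G, χ.1 g = χ.1 1 → g = 1)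
    (e : ℕ) (he : charDegree χ.1 = e) (hdeg : 2 * e + 1 = p) (z : G) (ζ : ℂ)
    (hHP : HP p ζ z χ.1)
    (habs : ∀ g : G, ¬ p ∣ orderOf g → g ∉ Subgroup.center G → ‖χ.1 g‖ ≤ 1)
    (h4 : (Nat.card G : ℝ) * (1 + ((e / 2 : ℕ) : ℝ)) ≤ ∑ g : G, ‖χ.1 g‖ ^ 4)
    (hSq : (Sq p).card = (p - 1) / 2)
    (heta0 : eta p ζ 0 = (((p - 1) / 2 : ℕ) : ℂ))
    (hpars : ∑ t : ZMod p, eta p ζ t * conj (eta p ζ t) = ((p * ((p - 1) / 2) : ℕ) : ℂ))
    (heta4 : ∑ t ∈ Finset.univ.filter (fun t : ZMod p => t ≠ 0), ‖eta p ζ t‖ ^ 4 =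
      if Even e then (e : ℝ) * ((e : ℝ) ^ 2 + 4 * e + 2) / 2 else (e : ℝ) * ((e : ℝ) + 1) ^ 2 / 2)
    (hsing : ∀ F : G → ℝ, (∀ g x : G, F (x * g * x⁻¹) = F g) →
      ((p * (Sq p).card * Nat.card (Subgroup.center G) : ℕ) : ℝ) *
        ∑ g ∈ Finset.univ.filter (fun g : G => p ∣ orderOf g), F g =
      (Nat.card G : ℝ) * ∑ q ∈ Finset.univ.filter
        (fun q : ZMod p × G => q.1 ≠ 0 ∧ q.2 ∈ Subgroup.center G), F (z ^ q.1.val * q.2)) :
    2 * Nat.card G ≤ Nat.card (Subgroup.center G) * (p * (p ^ 2 - 1)) := by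
  have hp : p.Prime := Fact.out
  obtain ⟨hpos, hχ1⟩ := Cfsg.Agent.Lib.Helper83.irr_degree χ.2
  rw [he] at hpos hχ1
  have hpe : (p - 1) / 2 = e := by omega
  rw [hpe] at hSq heta0 hpars
  have hZpos : (0 : ℝ) < (Nat.card (Subgroup.center G) : ℝ) := by exact_mod_cast Nat.card_pos
  have hnorm_le : ∀ g, ‖χ.1 g‖ ≤ (e : ℝ) := fun g => by
    have h1 := Cfsg.Agent.Lib.Helper83.irr_norm_le χ.2 g
    rwa [he] at h1
  have htot2 := mom_total2 χ
  by_cases he1 : e = 1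
  · -- `χ` linear: `G` is abelian
    subst he1
    have hle1 : ∀ g : G, ‖χ.1 g‖ ≤ 1 := fun g => by
      have h1 := hnorm_le g
      simpa using h1
    have hall : ∀ g : G, ‖χ.1 g‖ = 1 := by
      intro g
      by_contra hne
      have hlt : ‖χ.1 g‖ < 1 := lt_of_le_of_ne (hle1 g) hne
      have hlt2 : ‖χ.1 g‖ ^ 2 < 1 := by nlinarith [norm_nonneg (χ.1 g)]
      have hsum : ∑ g : G, ‖χ.1 g‖ ^ 2 < ∑ _g : G, (1 : ℝ) := by
        apply Finset.sum_lt_sum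
        · intro x _
          have h1 := hle1 x
          have h0 := norm_nonneg (χ.1 x)
          nlinarith
        · exact ⟨g, Finset.mem_univ g, hlt2⟩
      rw [htot2, Finset.sum_const, Finset.card_univ, nsmul_eq_mul, mul_one,
        Nat.card_eq_fintype_card] at hsum
      exact lt_irrefl _ hsum
    have htop : ∀ g : G, g ∈ Subgroup.center G := fun g =>
      Cfsg.Agent.Lib.Helper67.BFT.central_of_norm χ hfaith g (χ.1 g) (hall g) (by
        rw [hχ1]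
        simp)
    have hcard : Nat.card (Subgroup.center G) = Nat.card G := by
      have h1 : Subgroup.center G = ⊤ := eq_top_iff.mpr fun g _ => htop g
      rw [h1, Subgroup.card_top]
    rw [hcard, ← hdeg]
    norm_num
    omega
  have he2 : 2 ≤ e := by omega
  have hpR : (p : ℝ) = 2 * (e : ℝ) + 1 := by
    rw [← hdeg]
    push_cast
    ring
  have hsp2 := mom_split p hnn (fun g => ‖χ.1 g‖ ^ 2)
  have hsp4 := mom_split p hnn (fun g => ‖χ.1 g‖ ^ 4)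
  -- the central part
  have hZ2 : ∑ g ∈ Finset.univ.filter (fun g : G => g ∈ Subgroup.center G), ‖χ.1 g‖ ^ 2 =
      (Nat.card (Subgroup.center G) : ℝ) * (e : ℝ) ^ 2 := by
    rw [Finset.sum_congr rfl (fun g hg => by
      rw [Cfsg.Agent.Lib.Helper83.irr_central_norm χ g (Finset.mem_filter.mp hg).2, he]),
      Finset.sum_const, nsmul_eq_mul, mom_card_center]
  have hZ4 : ∑ g ∈ Finset.univ.filter (fun g : G => g ∈ Subgroup.center G), ‖χ.1 g‖ ^ 4 =
      (Nat.card (Subgroup.center G) : ℝ) * (e : ℝ) ^ 4 := by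
    rw [Finset.sum_congr rfl (fun g hg => by
      rw [Cfsg.Agent.Lib.Helper83.irr_central_norm χ g (Finset.mem_filter.mp hg).2, he]),
      Finset.sum_const, nsmul_eq_mul, mom_card_center]
  -- the singular part
  have hcF2 : ∀ g x : G, ‖χ.1 (x * g * x⁻¹)‖ ^ 2 = ‖χ.1 g‖ ^ 2 := fun g x => by
    rw [Cfsg.Agent.Lib.Helper83.irr_classFunction χ.2 g x]
  have hcF4 : ∀ g x : G, ‖χ.1 (x * g * x⁻¹)‖ ^ 4 = ‖χ.1 g‖ ^ 4 := fun g x => by
    rw [Cfsg.Agent.Lib.Helper83.irr_classFunction χ.2 g x]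
  have hs2 := hsing (fun g => ‖χ.1 g‖ ^ 2) hcF2
  have hs4 := hsing (fun g => ‖χ.1 g‖ ^ 4) hcF4
  have hT2 : ∑ q ∈ Finset.univ.filter
      (fun q : ZMod p × G => q.1 ≠ 0 ∧ q.2 ∈ Subgroup.center G),
        ‖χ.1 (z ^ q.1.val * q.2)‖ ^ 2 =
      (Nat.card (Subgroup.center G) : ℝ) *
        ∑ t ∈ Finset.univ.filter (fun t : ZMod p => t ≠ 0), ‖eta p ζ t‖ ^ 2 := by
    rw [← mom_pair_sum p (fun t => ‖eta p ζ t‖ ^ 2)]
    refine Finset.sum_congr rfl fun q hq => ?_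
    rw [mom_val p χ z ζ hHP q.1 q.2 (Finset.mem_filter.mp hq).2.2]
  have hT4 : ∑ q ∈ Finset.univ.filter
      (fun q : ZMod p × G => q.1 ≠ 0 ∧ q.2 ∈ Subgroup.center G),
        ‖χ.1 (z ^ q.1.val * q.2)‖ ^ 4 =
      (Nat.card (Subgroup.center G) : ℝ) *
        ∑ t ∈ Finset.univ.filter (fun t : ZMod p => t ≠ 0), ‖eta p ζ t‖ ^ 4 := by
    rw [← mom_pair_sum p (fun t => ‖eta p ζ t‖ ^ 4)]
    refine Finset.sum_congr rfl fun q hq => ?_
    rw [mom_val p χ z ζ hHP q.1 q.2 (Finset.mem_filter.mp hq).2.2]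
  have hA2 : ∑ t ∈ Finset.univ.filter (fun t : ZMod p => t ≠ 0), ‖eta p ζ t‖ ^ 2 =
      (e : ℝ) * ((e : ℝ) + 1) := by
    have h1 : ((∑ t : ZMod p, ‖eta p ζ t‖ ^ 2 : ℝ) : ℂ) = (((p * e : ℕ) : ℝ) : ℂ) := by
      have h0 : (((p * e : ℕ) : ℝ) : ℂ) = ((p * e : ℕ) : ℂ) := by norm_cast
      rw [h0, ← hpars]
      push_cast
      refine Finset.sum_congr rfl fun t _ => ?_
      rw [Complex.mul_conj']
    have h2 : ∑ t : ZMod p, ‖eta p ζ t‖ ^ 2 = ((p * e : ℕ) : ℝ) := Complex.ofReal_injective h1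
    have h3 : ‖eta p ζ 0‖ ^ 2 = (e : ℝ) ^ 2 := by rw [heta0, Complex.norm_natCast]
    have h5 := Finset.add_sum_erase Finset.univ (fun t : ZMod p => ‖eta p ζ t‖ ^ 2)
      (Finset.mem_univ (0 : ZMod p))
    rw [h2, h3] at h5
    have h6 : Finset.univ.filter (fun t : ZMod p => t ≠ 0) = Finset.univ.erase 0 := by
      ext t
      simp
    rw [h6]
    push_cast at h5
    rw [hpR] at h5
    linear_combination h5
  rw [hT2, hA2, hSq] at hs2
  rw [hT4, heta4, hSq] at hs4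
  push_cast at hs2 hs4
  rw [hpR] at hs2 hs4
  -- the remaining part
  have hR : ∑ g ∈ Finset.univ.filter
      (fun g : G => g ∉ Subgroup.center G ∧ ¬ p ∣ orderOf g), ‖χ.1 g‖ ^ 4 ≤
      ∑ g ∈ Finset.univ.filter
        (fun g : G => g ∉ Subgroup.center G ∧ ¬ p ∣ orderOf g), ‖χ.1 g‖ ^ 2 := by
    refine Finset.sum_le_sum fun g hg => ?_
    have hg' := (Finset.mem_filter.mp hg).2
    exact pow_le_pow_of_le_one (norm_nonneg _) (habs g hg'.2 hg'.1) (by norm_num)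
  rw [hZ2] at hsp2
  rw [hZ4] at hsp4
  rw [htot2] at hsp2
  rw [hsp4] at h4
  have hfin := mom_arith e he2 (Nat.card G : ℝ) (Nat.card (Subgroup.center G) : ℝ) _ _ _ _ _
    hZpos rfl hs2 hs4 hR hsp2.symm h4
  have hp2 : p ^ 2 - 1 = 4 * e ^ 2 + 4 * e := by
    rw [← hdeg]
    have h1 : (2 * e + 1) ^ 2 = 4 * e ^ 2 + 4 * e + 1 := by ring
    omega
  rw [hp2]
  have hcast : ((2 * Nat.card G : ℕ) : ℝ) ≤
      ((Nat.card (Subgroup.center G) * (p * (4 * e ^ 2 + 4 * e)) : ℕ) : ℝ) := by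
    push_cast
    rw [hpR]
    exact hfin
  exact_mod_cast hcast

end

end Cfsg.Agent.Lib.Helper64.HPT
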