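import Mathlib
import Cfsg.Agent.Lib.Helper22.HPDefs
import Cfsg.Agent.Lib.Helper83.IrrBasic
import Cfsg.Agent.Lib.Helper82.PQ
import Cfsg.Agent.Lib.Helper67.BFZCENT
import Cfsg.Agent.Lib.Helper31.HPETA
import Cfsg.Agent.Lib.Helper31.HPETA4
import Cfsg.Agent.Lib.Helper87.HPPSING
import Cfsg.Agent.Lib.Helper2.HPMOMCARD
import Cfsg.Agent.Lib.Helper87.HPMOMFIBER
import Cfsg.Agent.Lib.Helper16.HPMOMCOUNT
import Cfsg.Agent.Lib.Helper64.HPMOMC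

/-!
# S4504 (HP project of helper22): TOP PIECE MOMENT (helper64; sub-pieces by helper2, helper16,
helper87)
-/

set_option autoImplicit false
set_option linter.style.haveILetI false

namespace Cfsg.Agent.Lib.Helper64.HPT

open Cfsg Cfsg.Agent.Lib.Helper22.BFD Cfsg.Agent.Lib.Helper22.HPD
open scoped ComplexConjugate

universe u

/-- TOP PIECE MOMENT -/
theorem hp_moment {G : Type u} [Group G] [Fintype G] (p : ℕ) [Fact p.Prime]
    (hdiv : p ∣ Nat.card G) (hsq : ¬ p ^ 2 ∣ Nat.card G)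
    (hnn : ∀ H : Subgroup G, H.Normal → Nat.card H ≠ p)
    (χ : IrrCharacter G) (hfaith : ∀ g : G, χ.1 g = χ.1 1 → g = 1)
    (hdeg : 2 * charDegree χ.1 + 1 = p) (z : G) (ζ : ℂ) (hHP : HP p ζ z χ.1)
    (habs : ∀ g : G, ¬ p ∣ orderOf g → g ∉ Subgroup.center G → ‖χ.1 g‖ ≤ 1)
    (h4 : (Nat.card G : ℝ) * (1 + ((charDegree χ.1 / 2 : ℕ) : ℝ)) ≤ ∑ g : G, ‖χ.1 g‖ ^ 4) :
    2 * Nat.card G ≤ Nat.card (Subgroup.center G) * (p * (p ^ 2 - 1)) := by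
  classical
  have hp2 : p ≠ 2 := by omega
  obtain ⟨hSq, heta0, -, -, hpars, -⟩ := Cfsg.Agent.Lib.Helper31.HPT.eta_facts p hp2 ζ hHP.hζ
  have heta4 := Cfsg.Agent.Lib.Helper31.HPT.eta_four p hp2 ζ hHP.hζ (charDegree χ.1) hdeg
  have hpsing := Cfsg.Agent.Lib.Helper87.HPT.hp_psing p hsq hnn χ.1 z ζ hHP
  have hnorm := Cfsg.Agent.Lib.Helper2.HPT.mom_card_norm p hnn χ.1 z ζ hHP
  have hfiber := Cfsg.Agent.Lib.Helper87.HPT.mom_fiber p hnn χ.1 z ζ hHP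
  have hcount := Cfsg.Agent.Lib.Helper16.HPT.mom_count p hnn χ.1 z ζ hHP hpsing hfiber hnorm
  have hsing := fun (F : G → ℝ) (hF : ∀ g x : G, F (x * g * x⁻¹) = F g) =>
    Cfsg.Agent.Lib.Helper16.HPT.mom_sing_sum p z hcount F hF
  exact hp_moment_core p hnn χ hfaith (charDegree χ.1) rfl hdeg z ζ hHP habs h4 hSq heta0 hpars
    heta4 hsing

end Cfsg.Agent.Lib.Helper64.HPT
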