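import Mathlib
import Cfsg.Prelude.Def_GeometricClasses
import Cfsg.Prelude.Def_LieClassical

/-!
Project O9 (helper44, S5835), piece NF3 (written by helper64): two non-degenerate symmetric
ternary forms over a finite field of odd characteristic are similar.
-/

set_option autoImplicit false

namespace Cfsg.Agent.Lib.Helper44.O9

open Matrix

variable {n : ℕ} {F : Type*} [Field F] [Fintype F]

/-- a non-degenerate binary diagonal form over a finite field of odd characteristic represents 1 -/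
theorem NF3_rep (h2 : (2 : F) ≠ 0) (a b : F) (ha : a ≠ 0) (hb : b ≠ 0) :
    ∃ x y : F, a * x ^ 2 + b * y ^ 2 = 1 := by
  classical
  have hchar : ringChar F ≠ 2 := by
    intro h
    apply h2
    have := ringChar.Nat.cast_ringChar (R := F)
    rw [h] at this
    exact_mod_cast this
  have hodd : Fintype.card F % 2 = 1 := FiniteField.odd_card_of_char_ne_two hchar
  have hf : (Polynomial.C a * Polynomial.X ^ 2 : Polynomial F).degree = 2 :=
    Polynomial.degree_C_mul_X_pow 2 ha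
  have hg : (Polynomial.C b * Polynomial.X ^ 2 - Polynomial.C 1 : Polynomial F).degree = 2 := by
    rw [Polynomial.degree_sub_eq_left_of_degree_lt]
    · exact Polynomial.degree_C_mul_X_pow 2 hb
    · rw [Polynomial.degree_C_mul_X_pow 2 hb]
      exact lt_of_le_of_lt Polynomial.degree_C_le (by norm_num)
  obtain ⟨x, y, hxy⟩ := FiniteField.exists_root_sum_quadratic hf hg hodd
  refine ⟨x, y, ?_⟩
  simp only [Polynomial.eval_mul, Polynomial.eval_C, Polynomial.eval_pow, Polynomial.eval_X,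
    Polynomial.eval_sub] at hxy
  linear_combination hxy

omit [Fintype F] in
/-- diagonalisation of a non-degenerate symmetric matrix by congruence -/
theorem NF3_diag (h2 : (2 : F) ≠ 0) (G : Matrix (Fin 3) (Fin 3) F) (hs : Gᵀ = G)
    (hd : G.det ≠ 0) :
    ∃ (B : Matrix (Fin 3) (Fin 3) F) (d : Fin 3 → F), (∀ i, d i ≠ 0) ∧
      Bᵀ * G * B = Matrix.diagonal d := by
  classical
  have : Invertible (2 : F) := invertibleOfNonzero h2
  have hsymm : LinearMap.IsSymm (Matrix.toBilin' G) := by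
    refine ⟨fun x y => ?_⟩
    rw [RingHom.id_apply, Matrix.toBilin'_apply', Matrix.toBilin'_apply', Matrix.dotProduct_mulVec,
      ← Matrix.mulVec_transpose, hs, dotProduct_comm]
  obtain ⟨v, hv⟩ := LinearMap.BilinForm.exists_orthogonal_basis hsymm
  have hnd : (Matrix.toBilin' G).Nondegenerate :=
    LinearMap.BilinForm.nondegenerate_toBilin'_of_det_ne_zero' G hd
  have hfr : Module.finrank F (Fin 3 → F) = 3 := by simp
  let c : Module.Basis (Fin 3) F (Fin 3 → F) := v.reindex (finCongr hfr)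
  have hc : ∀ i, c i = v ((finCongr hfr).symm i) := fun i => Module.Basis.reindex_apply v _ i
  refine ⟨(Pi.basisFun F (Fin 3)).toMatrix c, fun i => Matrix.toBilin' G (c i) (c i), ?_, ?_⟩
  · intro i
    have h1 := hv.not_isOrtho_basis_self_of_separatingLeft hnd.1 ((finCongr hfr).symm i)
    show Matrix.toBilin' G (c i) (c i) ≠ 0
    rw [hc]
    exact h1
  · have h1 := LinearMap.BilinForm.toMatrix_mul_basis_toMatrix (Pi.basisFun F (Fin 3)) c
      (Matrix.toBilin' G)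
    rw [LinearMap.BilinForm.toMatrix_basisFun, LinearMap.BilinForm.toMatrix'_toBilin'] at h1
    rw [h1]
    ext i j
    rw [LinearMap.BilinForm.toMatrix_apply, Matrix.diagonal_apply]
    by_cases hij : i = j
    · subst hij; simp
    · rw [if_neg hij, hc, hc]
      exact (LinearMap.isOrthoᵢ_def.1 hv) ((finCongr hfr).symm i) ((finCongr hfr).symm j)
        (fun h => hij ((finCongr hfr).symm.injective h))

omit [Fintype F] in
theorem NF3_step01 (a b c x y : F) (h : a * x ^ 2 + b * y ^ 2 = 1) :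
    (!![x, -(b * y), 0; y, a * x, 0; 0, 0, 1] : Matrix (Fin 3) (Fin 3) F)ᵀ *
      Matrix.diagonal ![a, b, c] * !![x, -(b * y), 0; y, a * x, 0; 0, 0, 1] =
      Matrix.diagonal ![1, a * b, c] := by
  ext i j
  fin_cases i <;> fin_cases j <;>
    simp [Matrix.mul_apply, Fin.sum_univ_three, Matrix.diagonal_apply] <;>
    first
      | linear_combination h
      | linear_combination (a * b) * h
      | ring

omit [Fintype F] in
theorem NF3_step12 (a b c x y : F) (h : a * x ^ 2 + b * y ^ 2 = 1) :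
    (!![1, 0, 0; 0, x, -(b * y); 0, y, a * x] : Matrix (Fin 3) (Fin 3) F)ᵀ *
      Matrix.diagonal ![c, a, b] * !![1, 0, 0; 0, x, -(b * y); 0, y, a * x] =
      Matrix.diagonal ![c, 1, a * b] := by
  ext i j
  fin_cases i <;> fin_cases j <;>
    simp [Matrix.mul_apply, Fin.sum_univ_three, Matrix.diagonal_apply] <;>
    first
      | linear_combination h
      | linear_combination (a * b) * h
      | ring

omit [Fintype F] in
theorem NF3_stepN (d₁ d₂ x y : F) (h : x ^ 2 + y ^ 2 = d₁ * d₂) :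
    (!![x, -y, 0; y, x, 0; 0, 0, d₁] : Matrix (Fin 3) (Fin 3) F)ᵀ *
      Matrix.diagonal ![1, 1, d₂] * !![x, -y, 0; y, x, 0; 0, 0, d₁] =
      (d₁ * d₂) • Matrix.diagonal ![1, 1, d₁] := by
  ext i j
  fin_cases i <;> fin_cases j <;>
    simp [Matrix.mul_apply, Fin.sum_univ_three, Matrix.diagonal_apply] <;>
    first
      | linear_combination h
      | ring

/-- normal form `diag(1, 1, d)` -/
theorem NF3_norm (h2 : (2 : F) ≠ 0) (G : Matrix (Fin 3) (Fin 3) F) (hs : Gᵀ = G)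
    (hd : G.det ≠ 0) :
    ∃ (B : Matrix (Fin 3) (Fin 3) F) (d : F), d ≠ 0 ∧ B.det ≠ 0 ∧
      Bᵀ * G * B = Matrix.diagonal ![1, 1, d] := by
  obtain ⟨B₀, d, hdne, hB₀⟩ := NF3_diag h2 G hs hd
  obtain ⟨x, y, hxy⟩ := NF3_rep h2 (d 0) (d 1) (hdne 0) (hdne 1)
  obtain ⟨x', y', hxy'⟩ := NF3_rep h2 (d 0 * d 1) (d 2) (mul_ne_zero (hdne 0) (hdne 1)) (hdne 2)
  have hdiag : Matrix.diagonal d = Matrix.diagonal ![d 0, d 1, d 2] := by
    congr 1; funext i; fin_cases i <;> rfl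
  have e1 := NF3_step01 (d 0) (d 1) (d 2) x y hxy
  have e2 := NF3_step12 (d 0 * d 1) (d 2) 1 x' y' hxy'
  have hdd : d 0 * d 1 * d 2 ≠ 0 := mul_ne_zero (mul_ne_zero (hdne 0) (hdne 1)) (hdne 2)
  have hfin : (B₀ * !![x, -(d 1 * y), 0; y, d 0 * x, 0; 0, 0, 1] *
        !![1, 0, 0; 0, x', -(d 2 * y'); 0, y', d 0 * d 1 * x'])ᵀ * G *
      (B₀ * !![x, -(d 1 * y), 0; y, d 0 * x, 0; 0, 0, 1] *
        !![1, 0, 0; 0, x', -(d 2 * y'); 0, y', d 0 * d 1 * x']) =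
      Matrix.diagonal ![1, 1, d 0 * d 1 * d 2] := by
    rw [Matrix.transpose_mul, Matrix.transpose_mul]
    calc (!![1, 0, 0; 0, x', -(d 2 * y'); 0, y', d 0 * d 1 * x'] : Matrix (Fin 3) (Fin 3) F)ᵀ *
          ((!![x, -(d 1 * y), 0; y, d 0 * x, 0; 0, 0, 1] : Matrix (Fin 3) (Fin 3) F)ᵀ * B₀ᵀ) * G *
          (B₀ * !![x, -(d 1 * y), 0; y, d 0 * x, 0; 0, 0, 1] *
            !![1, 0, 0; 0, x', -(d 2 * y'); 0, y', d 0 * d 1 * x'])
        = (!![1, 0, 0; 0, x', -(d 2 * y'); 0, y', d 0 * d 1 * x'] : Matrix (Fin 3) (Fin 3) F)ᵀ *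
          ((!![x, -(d 1 * y), 0; y, d 0 * x, 0; 0, 0, 1] : Matrix (Fin 3) (Fin 3) F)ᵀ *
            (B₀ᵀ * G * B₀) * !![x, -(d 1 * y), 0; y, d 0 * x, 0; 0, 0, 1]) *
          !![1, 0, 0; 0, x', -(d 2 * y'); 0, y', d 0 * d 1 * x'] := by
          simp only [Matrix.mul_assoc]
      _ = Matrix.diagonal ![1, 1, d 0 * d 1 * d 2] := by rw [hB₀, hdiag, e1, e2]
  refine ⟨_, d 0 * d 1 * d 2, hdd, ?_, hfin⟩
  intro hdet
  have h3 := congrArg Matrix.det hfin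
  rw [Matrix.det_mul, Matrix.det_mul, Matrix.det_transpose, hdet] at h3
  simp only [Matrix.det_diagonal, Fin.prod_univ_three] at h3
  simp at h3
  rcases h3 with (h3 | h3) | h3
  · exact hdne 0 h3
  · exact hdne 1 h3
  · exact hdne 2 h3

theorem NF3 (h2 : (2 : F) ≠ 0) (G₁ G₂ : Matrix (Fin 3) (Fin 3) F) (hs1 : G₁ᵀ = G₁)
    (hs2 : G₂ᵀ = G₂) (hd1 : G₁.det ≠ 0) (hd2 : G₂.det ≠ 0) :
    ∃ (A : GL (Fin 3) F) (c : F), c ≠ 0 ∧ A.1ᵀ * G₂ * A.1 = c • G₁ := by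
  obtain ⟨B₁, d₁, hd₁, hB₁det, hB₁⟩ := NF3_norm h2 G₁ hs1 hd1
  obtain ⟨B₂, d₂, hd₂, hB₂det, hB₂⟩ := NF3_norm h2 G₂ hs2 hd2
  have hc : d₁ * d₂ ≠ 0 := mul_ne_zero hd₁ hd₂
  obtain ⟨x, y, hxy0⟩ := NF3_rep h2 (d₁ * d₂)⁻¹ (d₁ * d₂)⁻¹ (inv_ne_zero hc) (inv_ne_zero hc)
  have hxy : x ^ 2 + y ^ 2 = d₁ * d₂ := by
    have h1 : (d₁ * d₂)⁻¹ * (x ^ 2 + y ^ 2) = 1 := by rw [mul_add]; exact hxy0
    field_simp at h1
    linear_combination h1
  have hN := NF3_stepN d₁ d₂ x y hxy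
  have hNdet : (!![x, -y, 0; y, x, 0; 0, 0, d₁] : Matrix (Fin 3) (Fin 3) F).det ≠ 0 := by
    intro hdet
    have h3 := congrArg Matrix.det hN
    rw [Matrix.det_mul, Matrix.det_mul, Matrix.det_transpose, hdet, Matrix.det_smul] at h3
    simp only [Matrix.det_diagonal, Fin.prod_univ_three] at h3
    simp at h3
    rcases h3 with h3 | h3
    · rcases h3 with h3 | h3
      · exact hd₁ h3
      · exact hd₂ h3
    · exact hd₁ h3
  have hu₁ : IsUnit B₁.det := isUnit_iff_ne_zero.2 hB₁det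
  have hAdet : (B₂ * !![x, -y, 0; y, x, 0; 0, 0, d₁] * B₁⁻¹).det ≠ 0 := by
    rw [Matrix.det_mul, Matrix.det_mul]
    refine mul_ne_zero (mul_ne_zero hB₂det hNdet) ?_
    exact (Matrix.isUnit_nonsing_inv_det B₁ hu₁).ne_zero
  have hu : IsUnit (B₂ * !![x, -y, 0; y, x, 0; 0, 0, d₁] * B₁⁻¹).det := isUnit_iff_ne_zero.2 hAdet
  refine ⟨⟨B₂ * !![x, -y, 0; y, x, 0; 0, 0, d₁] * B₁⁻¹,
    (B₂ * !![x, -y, 0; y, x, 0; 0, 0, d₁] * B₁⁻¹)⁻¹, Matrix.mul_nonsing_inv _ hu,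
    Matrix.nonsing_inv_mul _ hu⟩, d₁ * d₂, hc, ?_⟩
  show (B₂ * !![x, -y, 0; y, x, 0; 0, 0, d₁] * B₁⁻¹)ᵀ * G₂ *
    (B₂ * !![x, -y, 0; y, x, 0; 0, 0, d₁] * B₁⁻¹) = (d₁ * d₂) • G₁
  have hG₁ : G₁ = (B₁⁻¹)ᵀ * Matrix.diagonal ![1, 1, d₁] * B₁⁻¹ := by
    rw [← hB₁]
    calc G₁ = (B₁ * B₁⁻¹)ᵀ * G₁ * (B₁ * B₁⁻¹) := by
          rw [Matrix.mul_nonsing_inv _ hu₁]; simp
      _ = (B₁⁻¹)ᵀ * (B₁ᵀ * G₁ * B₁) * B₁⁻¹ := by
          rw [Matrix.transpose_mul]; simp only [Matrix.mul_assoc]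
  rw [Matrix.transpose_mul, Matrix.transpose_mul]
  calc (B₁⁻¹)ᵀ * ((!![x, -y, 0; y, x, 0; 0, 0, d₁] : Matrix (Fin 3) (Fin 3) F)ᵀ * B₂ᵀ) * G₂ *
        (B₂ * !![x, -y, 0; y, x, 0; 0, 0, d₁] * B₁⁻¹)
      = (B₁⁻¹)ᵀ * ((!![x, -y, 0; y, x, 0; 0, 0, d₁] : Matrix (Fin 3) (Fin 3) F)ᵀ *
          (B₂ᵀ * G₂ * B₂) * !![x, -y, 0; y, x, 0; 0, 0, d₁]) * B₁⁻¹ := by
        simp only [Matrix.mul_assoc]
    _ = (B₁⁻¹)ᵀ * ((d₁ * d₂) • Matrix.diagonal ![1, 1, d₁]) * B₁⁻¹ := by rw [hB₂, hN]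
    _ = (d₁ * d₂) • G₁ := by
        rw [Matrix.mul_smul, Matrix.smul_mul, ← hG₁]

end Cfsg.Agent.Lib.Helper44.O9
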