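import Cfsg.Agent.Lib.Helper4.TPDefs

/-!
# TP piece KAZ (helper64, for helper4's S4033 project)
-/

set_option autoImplicit false

namespace Cfsg.Agent.Lib.Helper4.TP

universe u

/-- KAZ -/
theorem kaz : KazStmt.{u} := by
  intro G _ _ p m t hp hH ht htp hm T y hyT hyZ hcomm
  obtain ⟨a, ha⟩ := hm
  have : Fact t.Prime := ⟨ht⟩
  -- `y` is a noncentral `p`-regular element
  have hyreg : PReg p y := by
    unfold PReg
    obtain ⟨k, hk⟩ := T.isPGroup' ⟨y, hyT⟩
    have h1 : y ^ t ^ k = 1 := by
      have h2 := congrArg (fun g : (T : Subgroup G) => (g : G)) hk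
      simpa using h2
    obtain ⟨j, -, hj⟩ := (Nat.dvd_prime_pow ht).mp (orderOf_dvd_of_pow_eq_one h1)
    rw [hj]
    apply Nat.Coprime.pow_left
    exact (Nat.coprime_primes ht hp).mpr htp
  have hidx : (Cen y).index = m := hH.2.2 y ⟨hyreg, hyZ⟩
  -- the preimage `D` of the centralizer of the image of `y`
  have hsurj : Function.Surjective (QuotientGroup.mk' (Subgroup.center G)) :=
    QuotientGroup.mk'_surjective _
  have hD : ((Cen (QuotientGroup.mk (s := Subgroup.center G) y :
      G ⧸ Subgroup.center G)).comap (QuotientGroup.mk' (Subgroup.center G))).index =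
      (Cen (QuotientGroup.mk (s := Subgroup.center G) y : G ⧸ Subgroup.center G)).index :=
    Subgroup.index_comap_of_surjective _ hsurj
  have hCD : Cen y ≤ (Cen (QuotientGroup.mk (s := Subgroup.center G) y :
      G ⧸ Subgroup.center G)).comap (QuotientGroup.mk' (Subgroup.center G)) := by
    intro g hg
    rw [Subgroup.mem_comap, Subgroup.mem_centralizer_singleton_iff]
    rw [Subgroup.mem_centralizer_singleton_iff] at hg
    have h1 := congrArg (QuotientGroup.mk' (Subgroup.center G)) hg
    simpa using h1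
  have hTD : (T : Subgroup G) ≤ (Cen (QuotientGroup.mk (s := Subgroup.center G) y :
      G ⧸ Subgroup.center G)).comap (QuotientGroup.mk' (Subgroup.center G)) := by
    intro g hg
    rw [Subgroup.mem_comap, Subgroup.mem_centralizer_singleton_iff]
    have hc := hcomm g hg
    have h1 : (QuotientGroup.mk' (Subgroup.center G)) (g * y * g⁻¹ * y⁻¹) = 1 :=
      (QuotientGroup.eq_one_iff _).mpr hc
    have h2 : g * y = (g * y * g⁻¹ * y⁻¹) * (y * g) := by group
    have h3 := congrArg (QuotientGroup.mk' (Subgroup.center G)) h2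
    simp only [map_mul] at h3 h1
    rw [h1, one_mul] at h3
    exact h3
  have hd1 : (Cen (QuotientGroup.mk (s := Subgroup.center G) y :
      G ⧸ Subgroup.center G)).index ∣ p ^ a * t := by
    rw [← hD, ← ha, ← hidx]
    exact Subgroup.index_dvd_of_le hCD
  have hd2 : (Cen (QuotientGroup.mk (s := Subgroup.center G) y :
      G ⧸ Subgroup.center G)).index ∣ (T : Subgroup G).index := by
    rw [← hD]
    exact Subgroup.index_dvd_of_le hTD
  have hcop : ((Cen (QuotientGroup.mk (s := Subgroup.center G) y :
      G ⧸ Subgroup.center G)).index).Coprime t := by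
    apply Nat.Coprime.symm
    rw [Nat.Prime.coprime_iff_not_dvd ht]
    intro h1
    exact T.not_dvd_index (h1.trans hd2)
  have hd3 : (Cen (QuotientGroup.mk (s := Subgroup.center G) y :
      G ⧸ Subgroup.center G)).index ∣ p ^ a := hcop.dvd_of_dvd_mul_right hd1
  obtain ⟨k, -, hk⟩ := (Nat.dvd_prime_pow hp).mp hd3
  exact ⟨k, hk⟩

end Cfsg.Agent.Lib.Helper4.TP
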