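import Cfsg.Agent.Lib.Helper4.TPDefs

/-!
# TP piece S3 (helper64, for helper4's S4033 project)
-/

set_option autoImplicit false

namespace Cfsg.Agent.Lib.Helper4.TP

universe u

/-- if `x ^ k ∈ C` with `k` prime to the order of `x`, then `x ∈ C` -/
theorem s3_helper64_mem_of_pow {G : Type u} [Group G] (C : Subgroup G) (x : G) (k : ℕ)
    (hcop : (orderOf x).Coprime k) (hxk : x ^ k ∈ C) : x ∈ C := by
  have h1 : (1 : ℤ) = (orderOf x : ℤ) * Nat.gcdA (orderOf x) k +
      (k : ℤ) * Nat.gcdB (orderOf x) k := by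
    have h2 := Nat.gcd_eq_gcd_ab (orderOf x) k
    rw [hcop.gcd_eq_one] at h2
    exact_mod_cast h2
  have h2 : x = (x ^ k) ^ (Nat.gcdB (orderOf x) k) := by
    conv_lhs => rw [← zpow_one x, h1, zpow_add, zpow_mul, zpow_natCast, pow_orderOf_eq_one,
      one_zpow, one_mul, zpow_mul, zpow_natCast]
  rw [h2]
  exact Subgroup.zpow_mem _ hxk _

/-- S3 -/
theorem s3 : S3Stmt.{u} := by
  intro G _ _ p m s hp hH hA1 hs hsp hsm x hxZ hxo w hw hxN
  obtain ⟨j, hj⟩ := hxo
  -- the relative index of `Cen w` in its normalizer divides `m`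
  have hle : Cen w ≤ Subgroup.normalizer ((Cen w : Subgroup G) : Set G) := Subgroup.le_normalizer
  have hidx : (Cen w).index = m := hH.2.2 w hw
  have hk : (Cen w).relIndex (Subgroup.normalizer ((Cen w : Subgroup G) : Set G)) ∣ m := by
    rw [← hidx, ← Subgroup.relIndex_mul_index hle]
    exact dvd_mul_right _ _
  have hnormal : ((Cen w).subgroupOf (Subgroup.normalizer ((Cen w : Subgroup G) : Set G))).Normal :=
    Subgroup.normal_in_normalizer
  have hpow := Subgroup.pow_index_mem
    ((Cen w).subgroupOf (Subgroup.normalizer ((Cen w : Subgroup G) : Set G)))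
    (⟨x, hxN⟩ : Subgroup.normalizer ((Cen w : Subgroup G) : Set G))
  have hpow' : x ^ (Cen w).relIndex (Subgroup.normalizer ((Cen w : Subgroup G) : Set G)) ∈
      Cen w := by
    have h1 := Subgroup.mem_subgroupOf.mp hpow
    unfold Subgroup.relIndex
    simpa using h1
  have hcop : (orderOf x).Coprime
      ((Cen w).relIndex (Subgroup.normalizer ((Cen w : Subgroup G) : Set G))) := by
    rw [hj]
    apply Nat.Coprime.pow_left
    rw [Nat.Prime.coprime_iff_not_dvd hs]
    intro h1
    exact hsm (h1.trans hk)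
  have hxC : x ∈ Cen w := s3_helper64_mem_of_pow (Cen w) x _ hcop hpow'
  -- `x` is a noncentral `p`-regular element
  have hxreg : PReg p x := by
    unfold PReg
    rw [hj]
    apply Nat.Coprime.pow_left
    exact (Nat.coprime_primes hs hp).mpr hsp
  have hxNC : NC p x := ⟨hxreg, hxZ⟩
  have hwx : w ∈ Cen x := by
    rw [Subgroup.mem_centralizer_singleton_iff] at hxC ⊢
    exact hxC.symm
  exact le_antisymm (hA1 w x hw hxreg hxC) (hA1 x w hxNC hw.1 hwx)

end Cfsg.Agent.Lib.Helper4.TP
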