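import Cfsg.Agent.Lib.Helper41.TW3

/-!
Thompson–Wielandt setting, piece S3C: components of `X` lie in `A2`.
-/

set_option autoImplicit false

namespace Cfsg.Agent.Lib.Helper64.TWP

open Cfsg Cfsg.Agent.Lib.Helper66 Cfsg.Agent.Lib.Helper41.TW

variable {G : Type*} [Group G] [Finite G] {X Y A1 B1 A2 B2 : Subgroup G}

theorem step3_comp (S : Setting X Y A1 B1 A2 B2) {p : ℕ} (hp : p.Prime)
    (hA : rp p A2 ≠ ⊥) (hB : rp p B2 ≠ ⊥) {J : Subgroup G} (hJ : RC J X) : RC J A2 := by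
  have hEX : sSup {J | RC J X} ≤ X := sSup_rc_le X
  have hEn : X ≤ Subgroup.normalizer ((sSup {J | RC J X} : Subgroup G) : Set G) :=
    le_normalizer_sSup_rc Subgroup.le_normalizer
  have hJY : ∀ J', RC J' X → J' ≤ Y := fun J' h' =>
    ((h'.le_centralizer_rp hp).trans (Subgroup.centralizer_le (S.rp_B2_le_rp_X p))).trans
      (S.centralizer_rp_B2_le p hB)
  have hEY : sSup {J | RC J X} ≤ Y := sSup_le (fun J' h' => hJY J' h')
  have hEA1 : sSup {J | RC J X} ≤ A1 := S.le_A1 hEX hEY hEn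
  have hPBne : rp p B1 ≠ ⊥ := by
    intro h
    apply hA
    rw [eq_bot_iff, ← h]
    exact S.rp_A2_le_rp_B1 p
  have hPBY : rp p B1 ≤ Y := (rp_le p B1).trans S.B1_le_Y
  have hCBY : Subgroup.centralizer ((rp p B1 : Subgroup G) : Set G) ≤ Y :=
    S.centralizer_le_Y hPBY (S.Y_norm_rp_B1 p) hPBne
  have hCBX : Subgroup.centralizer ((rp p B1 : Subgroup G) : Set G) ≤ X :=
    (Subgroup.centralizer_le (S.rp_A2_le_rp_B1 p)).trans (S.centralizer_rp_A2_le p hA)
  have hCBn : Y ≤ Subgroup.normalizer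
      ((Subgroup.centralizer ((rp p B1 : Subgroup G) : Set G) : Subgroup G) : Set G) :=
    (S.Y_norm_rp_B1 p).trans (normalizer_le_normalizer_centralizer _)
  have hCB : Subgroup.centralizer ((rp p B1 : Subgroup G) : Set G) ≤ B1 :=
    S.le_B1 hCBY hCBX hCBn
  have hJB : ∀ J', RC J' X → J' ≤ B1 := by
    intro J' h'
    have hJ'Y : J' ≤ Y := hJY J' h'
    have hPBX : rp p B1 ≤ X := (rp_le p B1).trans S.B1_le_X
    have hW : RC J' (J' ⊔ rp p B1) := h'.of_le le_sup_left (sup_le h'.le hPBX)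
    have hWn : J' ⊔ rp p B1 ≤ Subgroup.normalizer ((rp p B1 : Subgroup G) : Set G) :=
      sup_le (hJ'Y.trans (S.Y_norm_rp_B1 p)) Subgroup.le_normalizer
    exact (hW.le_centralizer_pgroup hp le_sup_right hWn (rp_isPGroup p B1)).trans hCB
  have hEB1 : sSup {J | RC J X} ≤ B1 := sSup_le (fun J' h' => hJB J' h')
  have hEA2 : sSup {J | RC J X} ≤ A2 := S.le_A2 hEA1 hEB1 hEn
  exact hJ.of_le ((le_sSup (show J ∈ {J | RC J X} from hJ)).trans hEA2) S.A2_le_X

end Cfsg.Agent.Lib.Helper64.TWP
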